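import Cfsg.Agent.Lib.GolayExt.Rules
import Cfsg.Agent.Lib.GolayExt.Data

/-!
Kernel checks of the normalisation certificates.
-/

set_option autoImplicit false

namespace CfsgLib.GolayExt

set_option maxRecDepth 100000 in
theorem codeNorm_ok : normCheck codeMats codeRules (allRows codeMats codeRules codeLoops) codeShift
    codeComb [] 0 = true := by
  decide +kernel

set_option maxRecDepth 100000 in
theorem cocodeNorm_ok : normCheck cocodeMats cocodeRules
    (allRows cocodeMats cocodeRules cocodeLoops) cocodeShift cocodeComb nonsplitClass cocodeTau =
      true := by
  decide +kernel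

end CfsgLib.GolayExt
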