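import Cfsg.Agent.Lib.GolayExt.Linear
import Cfsg.Agent.Lib.GolayExt.Data
import Cfsg.Agent.Lib.Golay.M24
import Cfsg.Prelude.Def_Spor_Mathieu

/-!
The code module (words of the Golay code vanishing at the extra point) and the cocode module in
eleven coordinates, with the matrices of the certificate generators.
-/

set_option autoImplicit false

namespace CfsgLib.GolayExt

open Cfsg CfsgLib.Golay
open scoped Pointwise

local notation "PP" => Equiv.Perm GolayPt
local notation "WW" => GolayPt → ZMod 2

theorem wordOf_apply (n : ℕ) (p : GolayPt) : wordOf n p = bitZ (n.testBit (idx p)) := rfl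

theorem wordOf_comp_symm {σ : PP} {t : ℕ} (h : IsTbl σ t) (n : ℕ) :
    wordOf n ∘ ⇑σ⁻¹ = wordOf (imgMask t n) := by
  apply support₂_injective
  rw [support₂_wordOf (imgMask t n), ← smul_unmask h, ← support₂_wordOf n]
  ext p
  rw [← Finset.inv_smul_mem_iff]
  simp [support₂]

theorem comp_symm_mem_golayCode {σ : PP} (hσ : σ ∈ M24) {w : WW} (hw : w ∈ golayCode) :
    w ∘ ⇑σ⁻¹ ∈ golayCode := by
  obtain ⟨v, hv, e⟩ := smul_mem_supports hσ (⟨w, hw, rfl⟩ :
    support₂ w ∈ supports (golayCode : Set WW))
  have hsupp : σ • support₂ w = support₂ (w ∘ ⇑σ⁻¹) := by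
    ext p
    rw [← Finset.inv_smul_mem_iff]
    simp [support₂]
  have : v = w ∘ ⇑σ⁻¹ := support₂_injective (by rw [← hsupp]; exact e)
  exact this ▸ hv

theorem mem_M23_iff {σ : PP} : σ ∈ Spor.M23 ↔ σ ∈ M24 ∧ σ none = none := by
  rw [Spor.M23, Subgroup.mem_inf, MulAction.mem_stabilizer_iff]
  rfl

/-- The table gives an element of `M23`. -/
def inM23 (t : ℕ) : Bool := inM24 t && tblAt t 23 == 23

theorem mem_M23_of_isTbl {σ : PP} {t : ℕ} (h : IsTbl σ t) (ht : inM23 t = true) :
    σ ∈ Spor.M23 := by
  simp only [inM23, Bool.and_eq_true, beq_iff_eq] at ht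
  exact mem_M23_iff.2 ⟨mem_M24_of_isTbl h ht.1, idx_injective ((h none).trans ht.2)⟩

theorem exists_mem_M23_of_inM23 {t : ℕ} (ht : inM23 t = true) :
    ∃ σ ∈ Spor.M23, IsTbl σ t := by
  have h' : okTbl t = true := by
    simp only [inM23, inM24, Bool.and_eq_true] at ht
    exact ht.1.1
  obtain ⟨σ, hσ⟩ := exists_isTbl h'
  exact ⟨σ, mem_M23_of_isTbl hσ ht, hσ⟩

/-- The image of a bit number under a word in tables. -/
def wordImg (gens : List ℕ) (w : List ℕ) (i : ℕ) : ℕ :=
  w.foldr (fun k j => tblAt (gens.getD k 0) j) i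

theorem wordImg_spec {f : ℕ → PP} {gens : List ℕ} : ∀ {w : List ℕ},
    (∀ k ∈ w, IsTbl (f k) (gens.getD k 0)) → ∀ p, idx ((w.map f).prod p) = wordImg gens w (idx p)
  | [], _, p => by simp [wordImg]
  | k :: w, h, p => by
    rw [List.map_cons, List.prod_cons, Equiv.Perm.mul_apply, h k (List.mem_cons_self ..),
      wordImg_spec fun j hj => h j (List.mem_cons_of_mem _ hj)]
    rfl

theorem isTbl_word_eq {f : ℕ → PP} {gens : List ℕ} {l r : List ℕ}
    (hl : ∀ k ∈ l, IsTbl (f k) (gens.getD k 0)) (hr : ∀ k ∈ r, IsTbl (f k) (gens.getD k 0))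
    (h : ∀ i < 24, wordImg gens l i = wordImg gens r i) :
    (l.map f).prod = (r.map f).prod :=
  Equiv.ext fun p => idx_injective (by
    rw [wordImg_spec hl, wordImg_spec hr, h _ (idx_lt p)])

theorem wordOf_xorUpTo (f : ℕ → ℕ) (n : ℕ) :
    wordOf (xorUpTo f n) = ∑ c ∈ Finset.range n, wordOf (f c) := by
  induction n with
  | zero => simp [xorUpTo, wordOf_zero]
  | succ n ih => rw [xorUpTo, wordOf_xor, ih, Finset.sum_range_succ]

/-- The linear map sending coordinates to combinations of the listed words. -/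
def combMap (B : List ℕ) : V →ₗ[ZMod 2] WW :=
  ∑ i : Fin 11, (LinearMap.proj i : V →ₗ[ZMod 2] ZMod 2).smulRight (wordOf (B.getD i 0))

theorem combMap_apply (B : List ℕ) (x : V) :
    combMap B x = ∑ i : Fin 11, x i • wordOf (B.getD i 0) := by
  simp [combMap]

theorem combMap_bitsV (B : List ℕ) (n : ℕ) : combMap B (bitsV n) = wordOf (appN B n) := by
  rw [appN, wordOf_xorUpTo, combMap_apply]
  simp only [bitsV]
  rw [Fin.sum_univ_eq_sum_range (fun c => bitZ (n.testBit c) • wordOf (B.getD c 0))]
  refine Finset.sum_congr rfl fun c _ => ?_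
  cases n.testBit c <;> simp [bitZ, wordOf_zero]

/-- The word of the code with the given coordinates. -/
def codeWord : V →ₗ[ZMod 2] WW := combMap codeBasis

/-- Units at the pivots. -/
def pivotUnits : List ℕ := pivots.map (2 ^ ·)

/-- The representative of a cocode element with the given coordinates. -/
def cocodeRep : V →ₗ[ZMod 2] WW := combMap pivotUnits

/-- Coordinates of a word of the code: its values at the pivots. -/
def codeCoord : WW →ₗ[ZMod 2] V :=
  LinearMap.pi fun i => LinearMap.proj (pt (pivots.getD i 0))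

/-- Coordinates of a cocode element: pairings with the basis of the code. -/
def cocodeCoord : WW →ₗ[ZMod 2] V :=
  LinearMap.pi fun i => dotWord (wordOf (codeBasis.getD i 0))

theorem basis_delta : ((List.range 11).all fun i => decide (pivots.getD i 0 < 23) &&
    pivotUnits.getD i 0 == 2 ^ pivots.getD i 0 &&
    inCode (codeBasis.getD i 0) && !(codeBasis.getD i 0).testBit 23 &&
    (List.range 11).all fun j =>
      (codeBasis.getD i 0).testBit (pivots.getD j 0) == (i == j)) = true := by
  decide +kernel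

theorem basis_props (i : Fin 11) : pivots.getD i 0 < 23 ∧
    pivotUnits.getD i 0 = 2 ^ pivots.getD i 0 ∧
    wordOf (codeBasis.getD i 0) ∈ golayCode ∧ wordOf (codeBasis.getD i 0) none = 0 ∧
    ∀ j : Fin 11, wordOf (codeBasis.getD i 0) (pt (pivots.getD j 0)) = if i = j then 1 else 0 := by
  have h := basis_delta
  simp only [List.all_eq_true, List.mem_range, Bool.and_eq_true, decide_eq_true_eq, beq_iff_eq,
    Bool.not_eq_true'] at h
  obtain ⟨⟨⟨⟨h1, h2⟩, h3⟩, h4⟩, h5⟩ := h i i.isLt
  refine ⟨h1, h2, wordOf_mem_golayCode (inCode_iff.1 h3), ?_, fun j => ?_⟩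
  · rw [wordOf_apply, show idx none = 23 from rfl, h4]; rfl
  · have hj : pivots.getD j 0 < 23 := by
      obtain ⟨⟨⟨⟨h1', -⟩, -⟩, -⟩, -⟩ := h j j.isLt
      exact h1'
    rw [wordOf_apply, idx_pt (by omega), h5 j j.isLt]
    rcases eq_or_ne i j with rfl | hne
    · simp [bitZ]
    · rw [if_neg hne, beq_eq_false_iff_ne.2 fun e => hne (Fin.ext e)]; rfl

theorem codeCoord_codeWord (x : V) : codeCoord (codeWord x) = x := by
  funext j
  simp only [codeWord, combMap_apply, codeCoord, LinearMap.pi_apply, LinearMap.proj_apply,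
    Finset.sum_apply, Pi.smul_apply, smul_eq_mul, (basis_props _).2.2.2.2]
  simp

theorem codeWord_injective : Function.Injective codeWord := fun x y h => by
  rw [← codeCoord_codeWord x, h, codeCoord_codeWord]

theorem span_check : allSpan basisMasks (fun n => n.testBit 23 ||
    appN codeBasis (xorUpTo (fun i => bif n.testBit (pivots.getD i 0) then 2 ^ i else 0) 11) == n) =
      true := by
  decide +kernel

theorem mem_code_none_iff {w : WW} :
    (w ∈ golayCode ∧ w none = 0) ↔ ∃ x, codeWord x = w := by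
  constructor
  · rintro ⟨hw, h0⟩
    obtain ⟨n, hn, rfl⟩ := mem_golayCode_iff.1 hw
    have h := allSpan_iff.1 span_check n hn
    rw [Bool.or_eq_true, beq_iff_eq] at h
    rcases h with h | h
    · rw [wordOf_apply, show idx none = 23 from rfl, h] at h0
      exact absurd h0 (by decide)
    · exact ⟨_, (combMap_bitsV _ _).trans (congrArg wordOf h)⟩
  · rintro ⟨x, rfl⟩
    rw [codeWord, combMap_apply]
    refine ⟨Submodule.sum_mem _ fun i _ => Submodule.smul_mem _ _ (basis_props i).2.2.1, ?_⟩
    rw [Finset.sum_apply]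
    exact Finset.sum_eq_zero fun i _ => by rw [Pi.smul_apply, (basis_props i).2.2.2.1, smul_zero]

theorem codeWord_mem (x : V) : codeWord x ∈ golayCode ∧ codeWord x none = 0 :=
  mem_code_none_iff.2 ⟨x, rfl⟩

theorem codeWord_codeCoord {w : WW} (hw : w ∈ golayCode) (h0 : w none = 0) :
    codeWord (codeCoord w) = w := by
  obtain ⟨x, rfl⟩ := mem_code_none_iff.1 ⟨hw, h0⟩
  rw [codeCoord_codeWord]

/-- The matrices act as the tables do on the code words. -/
def codeMatOK (t : ℕ) (M : List ℕ) : Bool :=
  (List.range 11).all fun c => imgMask t (codeBasis.getD c 0) == appN codeBasis (M.getD c 0)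

theorem codeWord_comp {σ : PP} {t : ℕ} {M : List ℕ} (h : IsTbl σ t) (hM : codeMatOK t M = true)
    (x : V) : codeWord x ∘ ⇑σ⁻¹ = codeWord (appV M x) := by
  simp only [codeMatOK, List.all_eq_true, List.mem_range, beq_iff_eq] at hM
  rw [appV, map_sum]
  simp only [map_smul, codeWord, combMap_bitsV, ← fun c : Fin 11 => hM c c.isLt,
    ← wordOf_comp_symm h]
  rw [combMap_apply]
  funext p
  simp [Finset.sum_apply]

/-! ### The cocode -/

/-- The code with the unit vector at the extra point. -/
def cocodeKer : Submodule (ZMod 2) WW := golayCode ⊔ Submodule.span (ZMod 2) {Pi.single none 1}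

theorem mem_cocodeKer {w : WW} :
    w ∈ cocodeKer ↔ (w ∈ golayCode ∨ w + Pi.single none 1 ∈ golayCode) := by
  constructor
  · intro h
    obtain ⟨c, hc, z, hz, rfl⟩ := Submodule.mem_sup.1 h
    obtain ⟨a, rfl⟩ := Submodule.mem_span_singleton.1 hz
    rcases (by decide : ∀ c : ZMod 2, c = 0 ∨ c = 1) a with rfl | rfl
    · exact Or.inl (by simpa using hc)
    · refine Or.inr ?_
      rw [one_smul, add_assoc, zmod2_add_eq_zero, add_zero]
      exact hc
  · rintro (h | h)
    · exact Submodule.mem_sup_left h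
    · have : w = (w + Pi.single none 1) + Pi.single none 1 := by
        rw [add_assoc, zmod2_add_eq_zero, add_zero]
      rw [this]
      exact Submodule.add_mem_sup h (Submodule.mem_span_singleton_self _)

theorem cocodeCoord_apply (w : WW) (i : Fin 11) :
    cocodeCoord w i = ∑ p, wordOf (codeBasis.getD i 0) p * w p := by
  simp [cocodeCoord, dotWord_apply]

theorem cocodeCoord_ker {w : WW} (h : w ∈ cocodeKer) : cocodeCoord w = 0 := by
  have hle : cocodeKer ≤ LinearMap.ker cocodeCoord := by
    refine sup_le (fun c hc => ?_) ((Submodule.span_singleton_le_iff_mem _ _).2 ?_)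
    · rw [LinearMap.mem_ker]
      funext i
      rw [cocodeCoord_apply]
      exact dot_eq_zero (basis_props i).2.2.1 hc
    · rw [LinearMap.mem_ker]
      funext i
      rw [cocodeCoord_apply, Finset.sum_eq_single none (fun p _ hp => by rw [Pi.single_eq_of_ne hp, mul_zero]) (by simp),
        (basis_props i).2.2.2.1, zero_mul]
      rfl
  exact hle h

theorem pivotWord (i : Fin 11) :
    wordOf (pivotUnits.getD i 0) = Pi.single (pt (pivots.getD i 0)) 1 := by
  obtain ⟨h1, h2, -⟩ := basis_props i
  funext p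
  rw [wordOf_apply, h2, Nat.testBit_two_pow, Pi.single_apply]
  rcases eq_or_ne p (pt (pivots.getD i 0)) with rfl | hne
  · rw [idx_pt (show pivots.getD i 0 < 24 by omega), if_pos rfl, decide_eq_true rfl]; rfl
  · rw [if_neg hne, decide_eq_false fun e => hne (by rw [e, pt_idx])]; rfl

theorem cocodeCoord_rep (x : V) : cocodeCoord (cocodeRep x) = x := by
  rw [cocodeRep, combMap_apply, map_sum]
  simp only [map_smul]
  funext j
  simp only [Finset.sum_apply, Pi.smul_apply, smul_eq_mul, cocodeCoord_apply, pivotWord]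
  rw [Finset.sum_eq_single j]
  · rw [Finset.sum_eq_single (pt (pivots.getD j 0)) (fun p _ hp => by rw [Pi.single_eq_of_ne hp, mul_zero]) (by simp),
      (basis_props j).2.2.2.2]
    simp
  · intro i _ hne
    rw [Finset.sum_eq_single (pt (pivots.getD i 0)) (fun p _ hp => by rw [Pi.single_eq_of_ne hp, mul_zero]) (by simp),
      (basis_props j).2.2.2.2, if_neg hne.symm]
    simp
  · simp

theorem decomp_check : ((List.range 24).all fun j =>
    let m := xorUpTo (fun i => bif (codeBasis.getD i 0).testBit j then 2 ^ i else 0) 11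
    let z := 2 ^ j ^^^ appN pivotUnits m
    ((List.range 11).all fun i => m.testBit i == (codeBasis.getD i 0).testBit j) &&
      (inCode z || inCode (z ^^^ 2 ^ 23))) = true := by
  decide +kernel

theorem cocode_decomp (w : WW) : w + cocodeRep (cocodeCoord w) ∈ cocodeKer := by
  have key : ∀ q : GolayPt, (Pi.single q 1 : WW) + cocodeRep (cocodeCoord (Pi.single q 1)) ∈ cocodeKer := by
    intro q
    have h := decomp_check
    simp only [List.all_eq_true, List.mem_range, Bool.and_eq_true, Bool.or_eq_true, beq_iff_eq] at h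
    obtain ⟨hm, hz⟩ := h (idx q) (idx_lt q)
    have hsingle : ∀ j < 24, (Pi.single (pt j) 1 : WW) = wordOf (2 ^ j) := fun j hj => by
      funext p
      rw [wordOf_apply, Nat.testBit_two_pow, Pi.single_apply]
      rcases eq_or_ne p (pt j) with rfl | hne
      · simp [idx_pt hj, bitZ]
      · rw [if_neg hne, decide_eq_false fun e => hne (by rw [e, pt_idx])]; rfl
    generalize hmdef : xorUpTo (fun i => bif (codeBasis.getD i 0).testBit (idx q) then 2 ^ i else 0) 11 = m at hm hz
    have hcc : cocodeCoord (Pi.single q 1) = bitsV m := by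
      funext i
      rw [cocodeCoord_apply, Finset.sum_eq_single q (fun p _ hp => by rw [Pi.single_eq_of_ne hp, mul_zero]) (by simp),
        wordOf_apply, bitsV, hm i i.isLt]
      simp
    have hq : (Pi.single q 1 : WW) = wordOf (2 ^ idx q) := by
      rw [← hsingle _ (idx_lt q), pt_idx]
    rw [hcc, cocodeRep, combMap_bitsV, hq, ← wordOf_xor, mem_cocodeKer]
    rcases hz with hz | hz
    · exact Or.inl (wordOf_mem_golayCode (inCode_iff.1 hz))
    · refine Or.inr ?_
      have e23 : (Pi.single none 1 : WW) = wordOf (2 ^ 23) := by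
        rw [← hsingle 23 (by norm_num)]
        rfl
      rw [e23, ← wordOf_xor]
      exact wordOf_mem_golayCode (inCode_iff.1 hz)
  have hw : w = ∑ q, w q • (Pi.single q 1 : WW) := by
    funext p; simp [Finset.sum_apply, Pi.single_apply]
  rw [hw]
  simp only [map_sum, map_smul, ← Finset.sum_add_distrib, ← smul_add]
  exact Submodule.sum_mem _ fun q _ => Submodule.smul_mem _ _ (key q)

theorem cocodeCoord_eq_zero_iff {w : WW} : cocodeCoord w = 0 ↔ w ∈ cocodeKer := by
  refine ⟨fun h => ?_, cocodeCoord_ker⟩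
  have := cocode_decomp w
  rwa [h, map_zero, add_zero] at this

/-- The matrices act as the tables do on the cocode. -/
def cocodeMatOK (t : ℕ) (M : List ℕ) : Bool :=
  (List.range 11).all fun c => (List.range 11).all fun i =>
    (popc (codeBasis.getD i 0 &&& imgMask t (pivotUnits.getD c 0)) % 2 == 1) ==
      (M.getD c 0).testBit i

theorem cocodeCoord_comp {σ : PP} {t : ℕ} {M : List ℕ} (h : IsTbl σ t)
    (hM : cocodeMatOK t M = true) (x : V) :
    cocodeCoord (cocodeRep x ∘ ⇑σ⁻¹) = appV M x := by
  simp only [cocodeMatOK, List.all_eq_true, List.mem_range, beq_iff_eq] at hM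
  have hrep : cocodeRep x ∘ ⇑σ⁻¹ = ∑ c : Fin 11, x c • wordOf (imgMask t (pivotUnits.getD c 0)) := by
    simp only [← wordOf_comp_symm h]
    rw [cocodeRep, combMap_apply]
    funext p
    simp [Finset.sum_apply]
  rw [hrep, map_sum, appV]
  refine Finset.sum_congr rfl fun c _ => ?_
  rw [map_smul]
  refine congrArg (x c • ·) ?_
  funext i
  rw [cocodeCoord_apply, sum_mul_eq_card, support₂_wordOf, support₂_wordOf, ← unmask_and,
    card_unmask, bitsV, ← hM c c.isLt i i.isLt, ← ZMod.natCast_mod]
  rcases Nat.mod_two_eq_zero_or_one (popc (codeBasis.getD i 0 &&& imgMask t (pivotUnits.getD c 0)))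
    with e | e <;> rw [e] <;> rfl

end CfsgLib.GolayExt
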