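import Cfsg.Agent.Lib.GolayExt.Rules
import Cfsg.Agent.Lib.GolayExt.Modules
import Cfsg.Agent.Lib.NormalComplements.Gaschutz

/-!
An extension of `M23` by an abelian 2-group splits once lifts of the seven generators of a Sylow
2-subgroup satisfy its 28 relations exactly.
-/

set_option autoImplicit false

namespace CfsgLib.GolayExt

open Cfsg CfsgLib.Golay

local notation "PP" => Equiv.Perm GolayPt

/-- Normal-form words. -/
def nfWord (e : ℕ) : List ℕ := (List.range 7).filter e.testBit

/-- The list of all normal forms. -/
def nfList : List (List ℕ) := (List.range 128).map nfWord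

/-- Rewrite the first out-of-order pair by its relation. -/
def collectStep (rules : List (List ℕ × List ℕ)) : List ℕ → Option (List ℕ)
  | a :: b :: rest =>
    bif decide (b ≤ a) then (rules.find? fun R => R.1 == [a, b]).map fun R => R.2 ++ rest
    else (collectStep rules (b :: rest)).map (a :: ·)
  | _ => none

/-- Iterated collection. -/
def collect (rules : List (List ℕ × List ℕ)) : ℕ → List ℕ → List ℕ
  | 0, w => w
  | n + 1, w =>
    match collectStep rules w with
    | none => w
    | some w' => collect rules n w'

theorem collectStep_sound {G : Type*} [Group G] {g : ℕ → G} {rules : List (List ℕ × List ℕ)}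
    (h : ∀ R ∈ rules, liftW g R.1 = liftW g R.2) :
    ∀ {w w' : List ℕ}, collectStep rules w = some w' → liftW g w = liftW g w'
  | [], w', e => by simp [collectStep] at e
  | [a], w', e => by simp [collectStep] at e
  | a :: b :: rest, w', e => by
    rw [collectStep] at e
    cases hd : decide (b ≤ a)
    · rw [hd, cond_false, Option.map_eq_some_iff] at e
      obtain ⟨v, hv, rfl⟩ := e
      rw [liftW_cons g a, liftW_cons g a v, collectStep_sound h hv]
    · rw [hd, cond_true, Option.map_eq_some_iff] at e
      obtain ⟨R, hR, rfl⟩ := e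
      have h1 := List.find?_some hR
      rw [beq_iff_eq] at h1
      rw [liftW_append, ← h R (List.mem_of_find?_eq_some hR), h1, ← liftW_append]
      rfl

theorem collect_sound {G : Type*} [Group G] {g : ℕ → G} {rules : List (List ℕ × List ℕ)}
    (h : ∀ R ∈ rules, liftW g R.1 = liftW g R.2) :
    ∀ (n : ℕ) (w : List ℕ), liftW g (collect rules n w) = liftW g w
  | 0, _ => rfl
  | n + 1, w => by
    rw [collect]
    split
    · rfl
    · rename_i w' e
      rw [collect_sound h n w', collectStep_sound h e]

theorem closure_check : ((List.range 128).all fun e => (List.range 7).all fun k =>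
    nfList.contains (collect sylRules 64 (nfWord e ++ [k]))) = true := by
  decide +kernel

theorem nfKey_check : (nfList.map fun w => (List.range 24).map (wordImg sylTbls w)).Nodup := by
  decide +kernel

theorem natCard_M23 : Nat.card Spor.M23 = 10200960 := by
  have h : Spor.M23 = stabK [8388608] := by
    ext g
    rw [mem_M23_iff, mem_stabK]
    simp only [List.forall_mem_cons, List.not_mem_nil, IsEmpty.forall_iff, implies_true, and_true]
    rw [show (8388608 : ℕ) = 2 ^ idx (none : GolayPt) from rfl, unmask_two_pow,
      Finset.smul_finset_singleton, Finset.singleton_inj]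
    rfl
  rw [h]; exact card_stabK_point

/-- **Gaschütz for `M23`.** An extension of `M23` by an abelian 2-group splits if some lifts of the
generators of the Sylow 2-subgroup satisfy its relations. -/
theorem exists_complement {G : Type*} [Group G] [Finite G] (A : Subgroup G) [A.Normal]
    (hA : IsMulCommutative A) {n : ℕ} (hcard : Nat.card A = 2 ^ n) (π : G →* PP)
    (hker : π.ker = A) (hrange : π.range = Spor.M23) (s : ℕ → G)
    (hs : ∀ k < 7, IsTbl (π (s k)) (sylTbls.getD k 0))
    (hrel : ∀ R ∈ sylRules, liftW s R.1 = liftW s R.2) :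
    ∃ M : Subgroup G, M.IsComplement' A := by
  classical
  let Ks : Submonoid G := Submonoid.closure (s '' {k | k < 7})
  have hmem : ∀ x ∈ Ks, ∃ e < 128, x = liftW s (nfWord e) := by
    intro x hx
    induction hx using Submonoid.closure_induction_right with
    | one => exact ⟨0, by norm_num, by rw [show nfWord 0 = [] from by decide]; rfl⟩
    | mul_right x _ y hy ih =>
      obtain ⟨k, hk, rfl⟩ := hy
      obtain ⟨e, he, rfl⟩ := ih
      have h := closure_check
      simp only [List.all_eq_true, List.mem_range, List.contains_eq_mem, decide_eq_true_eq] at h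
      obtain ⟨e', he', hee⟩ := List.mem_map.1 (h e he k hk)
      refine ⟨e', List.mem_range.1 he', ?_⟩
      rw [hee, collect_sound hrel, liftW_append]
      simp [liftW]
  let K : Subgroup G :=
    { Ks with
      inv_mem' := fun {x} hx => by
        obtain ⟨m, hm⟩ : ∃ m : ℕ, x⁻¹ = x ^ m := by
          have hf : IsOfFinOrder x := isOfFinOrder_of_finite x
          exact ⟨orderOf x - 1, inv_eq_of_mul_eq_one_left (by
            rw [← pow_succ, Nat.sub_add_cancel hf.orderOf_pos, pow_orderOf_eq_one])⟩
        show x⁻¹ ∈ Ks
        rw [hm]; exact pow_mem hx m }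
  have hKs : ∀ {x : G}, x ∈ K ↔ x ∈ Ks := Iff.rfl
  have himg : ∀ e, ∀ p, idx (π (liftW s (nfWord e)) p) = wordImg sylTbls (nfWord e) (idx p) := by
    intro e p
    rw [liftW, map_list_prod, List.map_map]
    refine wordImg_spec (fun k hk => hs k ?_) p
    exact List.mem_range.1 (List.mem_filter.1 hk).1
  have hinj : ∀ a < 128, ∀ b < 128,
      π (liftW s (nfWord a)) = π (liftW s (nfWord b)) → a = b := by
    intro a ha b hb e
    have hl : ∀ i < 24, wordImg sylTbls (nfWord a) i = wordImg sylTbls (nfWord b) i := fun i hi => by
      rw [← idx_pt hi, ← himg, ← himg, e]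
    have hmap : (List.range 24).map (wordImg sylTbls (nfWord a)) =
        (List.range 24).map (wordImg sylTbls (nfWord b)) :=
      List.map_congr_left fun i hi => hl i (List.mem_range.1 hi)
    have hnd := nfKey_check
    rw [nfList, List.map_map] at hnd
    exact List.inj_on_of_nodup_map hnd (List.mem_range.2 ha) (List.mem_range.2 hb) hmap
  have hKA : K ⊓ A = ⊥ := by
    rw [Subgroup.eq_bot_iff_forall]
    rintro x ⟨hx, hxA⟩
    obtain ⟨e, he, rfl⟩ := hmem x (hKs.1 hx)
    replace hxA : π (liftW s (nfWord e)) = 1 := MonoidHom.mem_ker.1 (hker.symm ▸ hxA)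
    have h0 : π (liftW s (nfWord 0)) = 1 := by
      rw [show nfWord 0 = [] from by decide, liftW_nil, map_one]
    rw [hinj e he 0 (by norm_num) (hxA.trans h0.symm), show nfWord 0 = [] from by decide]
    rfl
  have hnfK : ∀ e, liftW s (nfWord e) ∈ K := fun e =>
    hKs.2 (Submonoid.list_prod_mem _ fun x hx => by
      obtain ⟨k, hk, rfl⟩ := List.mem_map.1 hx
      exact Submonoid.subset_closure ⟨k, List.mem_range.1 (List.mem_filter.1 hk).1, rfl⟩)
  have hKcard : Nat.card (K.map π) = 128 := by
    have h : ((K.map π : Subgroup PP) : Set PP) =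
        (fun e => π (liftW s (nfWord e))) '' Set.Iio 128 := by
      ext y
      constructor
      · rintro ⟨x, hx, rfl⟩
        obtain ⟨e, he, rfl⟩ := hmem x (hKs.1 hx)
        exact ⟨e, he, rfl⟩
      · rintro ⟨e, -, rfl⟩
        exact ⟨_, hnfK e, rfl⟩
    rw [← SetLike.coe_sort_coe, Nat.card_coe_set_eq, h,
      Set.InjOn.ncard_image (f := fun e => π (liftW s (nfWord e))) (s := Set.Iio 128)
        (fun a ha b hb e => hinj a ha b hb e), ← Nat.card_coe_set_eq]
    simp
  have hindex : ((K.map π).comap π).index = 79695 := by
    have hle : K.map π ≤ Spor.M23 := hrange ▸ Subgroup.map_le_range π K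
    rw [Subgroup.index_comap, hrange, Subgroup.relIndex]
    have h := Subgroup.card_mul_index ((K.map π).subgroupOf Spor.M23)
    rw [Nat.card_congr (Subgroup.subgroupOfEquivOfLe hle).toEquiv, hKcard, natCard_M23] at h
    omega
  refine CfsgLib.NormalComplements.exists_isComplement'_of_coprime_index A ((K.map π).comap π) K hA
    (fun x hx => ?_) (fun x hx => ⟨x, hx, rfl⟩) hKA (fun x hx => ?_) ?_
  · rw [← hker, MonoidHom.mem_ker] at hx
    show π x ∈ K.map π
    rw [hx]; exact one_mem _
  · obtain ⟨k, hk, e⟩ := hx
    have hA' : k⁻¹ * x ∈ A := by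
      rw [← hker, MonoidHom.mem_ker, map_mul, map_inv, e, inv_mul_cancel]
    rw [show x = k * (k⁻¹ * x) by group]
    exact mul_mem (Subgroup.mem_sup_left hk) (Subgroup.mem_sup_right hA')
  · rw [hcard, hindex]
    exact Nat.Coprime.pow_left _ (by norm_num)

end CfsgLib.GolayExt
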