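import Cfsg.Agent.Lib.GolayExt.Checks
import Cfsg.Agent.Lib.GolayExt.Complement

/-!
Extensions of `M23` by an elementary abelian group of order `2¹¹` with a prescribed action:
normalised lifts, and uniqueness of the non-split one.
-/

set_option autoImplicit false

namespace CfsgLib.GolayExt

open Cfsg CfsgLib.Golay

local notation "PP" => Equiv.Perm GolayPt

/-- An extension of `M23` by `V` with the action `act`. -/
structure ExtModel (act : PP → V → V) (E : Type*) [Group E] where
  /-- The map onto `M23`. -/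
  π : E →* PP
  /-- The coordinates of the normal subgroup. -/
  β : V → E
  add : ∀ x y, β (x + y) = β x * β y
  inj : Function.Injective β
  mem_ker : ∀ e, π e = 1 ↔ ∃ x, β x = e
  range : π.range = Spor.M23
  conj : ∀ g x, g * β x = β (act (π g) x) * g

/-- The check of generators and relations. -/
def gensOK (gens : List ℕ) (n : ℕ) (rules : List (List ℕ × List ℕ)) : Bool :=
  ((List.range n).all fun k => inM23 (gens.getD k 0)) &&
  ((List.range 7).all fun k => decide (k < n) && gens.getD k 0 == sylTbls.getD k 0) &&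
  ((List.range 28).all fun r => ruleAt rules r == ruleAt sylRules r) &&
  ((List.range rules.length).all fun r =>
    ((ruleAt rules r).1 ++ (ruleAt rules r).2).all (fun k => decide (k < n)) &&
    (List.range 24).all fun i =>
      wordImg gens (ruleAt rules r).1 i == wordImg gens (ruleAt rules r).2 i)

theorem sylRules_length : sylRules.length = 28 := by decide +kernel

theorem ruleAt_surj {R : List ℕ × List ℕ} (hR : R ∈ sylRules) :
    ∃ r < 28, ruleAt sylRules r = R := by
  obtain ⟨r, hr, rfl⟩ := List.getElem_of_mem hR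
  exact ⟨r, sylRules_length ▸ hr, List.getD_eq_getElem _ _ hr⟩

variable {act : PP → V → V} {E : Type*} [Group E]

theorem ExtModel.map_zero (M : ExtModel act E) : M.β 0 = 1 := by
  have e := M.add 0 0
  rw [add_zero] at e
  exact left_eq_mul.1 e

theorem ExtModel.π_β (M : ExtModel act E) (x : V) : M.π (M.β x) = 1 := (M.mem_ker _).2 ⟨x, rfl⟩

theorem ExtModel.exists_lift (M : ExtModel act E) {t : ℕ} (ht : inM23 t = true) :
    ∃ e, IsTbl (M.π e) t := by
  obtain ⟨σ, hσ, hσt⟩ := exists_mem_M23_of_inM23 ht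
  rw [← M.range] at hσ
  obtain ⟨e, rfl⟩ := hσ
  exact ⟨e, hσt⟩

theorem ExtModel.exists_normalised (M : ExtModel act E) {gens : List ℕ} {mats : List (List ℕ)}
    {rules : List (List ℕ × List ℕ)} (hg : gensOK gens mats.length rules = true)
    (hact : ∀ k < mats.length, ∀ σ, IsTbl σ (gens.getD k 0) → act σ = appV (mats.getD k []))
    {loops : List (List ℕ × List (ℕ × ℕ × Bool))} {W : List (List ℕ)} {comb rs : List ℕ} {tau : ℕ}
    (hc : normCheck mats rules (allRows mats rules loops) W comb rs tau = true) :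
    ∃ (t : ZMod 2) (s : ℕ → E), (∀ k < 7, IsTbl (M.π (s k)) (sylTbls.getD k 0)) ∧
      (tau = 0 → t = 0) ∧ ∀ r < 28, liftW s (ruleAt sylRules r).1 =
        M.β (t • bitsV (rs.getD r 0)) * liftW s (ruleAt sylRules r).2 := by
  simp only [gensOK, List.all_eq_true, List.mem_range, Bool.and_eq_true, decide_eq_true_eq,
    beq_iff_eq] at hg
  obtain ⟨⟨⟨h1, h2⟩, h3⟩, h4⟩ := hg
  have hex : ∀ k, ∃ e : E, k < mats.length → IsTbl (M.π e) (gens.getD k 0) := fun k => by
    rcases Nat.lt_or_ge k mats.length with hk | hk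
    · obtain ⟨e, he⟩ := M.exists_lift (h1 k hk)
      exact ⟨e, fun _ => he⟩
    · exact ⟨1, fun h => absurd h (by omega)⟩
  choose g hgl using hex
  have hA : IsActing mats g M.β := ⟨M.add, fun k hk x => by rw [M.conj, hact k hk _ (hgl k hk)]⟩
  have hrel : ∀ r < rules.length,
      ∃ x, liftW g (ruleAt rules r).1 = M.β x * liftW g (ruleAt rules r).2 := by
    intro r hr
    obtain ⟨hw, himg⟩ := h4 r hr
    have e : M.π (liftW g (ruleAt rules r).1) = M.π (liftW g (ruleAt rules r).2) := by
      simp only [liftW, map_list_prod, List.map_map]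
      exact isTbl_word_eq (fun k hk => hgl k (hw k (List.mem_append_left _ hk)))
        (fun k hk => hgl k (hw k (List.mem_append_right _ hk))) himg
    obtain ⟨x, hx⟩ := (M.mem_ker (liftW g (ruleAt rules r).1 * (liftW g (ruleAt rules r).2)⁻¹)).1
      (by rw [map_mul, map_inv, e, mul_inv_cancel])
    exact ⟨x, by rw [hx, inv_mul_cancel_right]⟩
  obtain ⟨t, s, hs, ht, hrel'⟩ :=
    CfsgLib.GolayExt.exists_normalised hA M.inj hrel hc
  refine ⟨t, s, fun k hk => ?_, ht, fun r hr => ?_⟩
  · obtain ⟨x, hx⟩ := hs k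
    rw [hx, map_mul, M.π_β, one_mul, ← (h2 k hk).2]
    exact hgl k (h2 k hk).1
  · rw [← h3 r hr]; exact hrel' r hr

theorem ExtModel.card_ker (M : ExtModel act E) : Nat.card M.π.ker = 2 ^ 11 := by
  have h : (M.π.ker : Set E) = Set.range M.β := by ext e; exact M.mem_ker e
  rw [← SetLike.coe_sort_coe, h, Nat.card_range_of_injective M.inj, Nat.card_fun, Nat.card_zmod,
    Nat.card_fin]

theorem ExtModel.comm_ker (M : ExtModel act E) : IsMulCommutative M.π.ker := by
  refine ⟨⟨fun a b => Subtype.ext ?_⟩⟩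
  obtain ⟨x, hx⟩ := (M.mem_ker a).1 a.2
  obtain ⟨y, hy⟩ := (M.mem_ker b).1 b.2
  simp only [Subgroup.coe_mul]
  rw [← hx, ← hy, ← M.add, ← M.add, add_comm]

variable [Finite E]

/-- An extension with exact lifts of the Sylow relations splits. -/
theorem ExtModel.exists_complement (M : ExtModel act E) (s : ℕ → E)
    (hs : ∀ k < 7, IsTbl (M.π (s k)) (sylTbls.getD k 0))
    (hrel : ∀ r < 28, liftW s (ruleAt sylRules r).1 = liftW s (ruleAt sylRules r).2) :
    ∃ H : Subgroup E, H ⊓ M.π.ker = ⊥ ∧ H ⊔ M.π.ker = ⊤ := by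
  obtain ⟨H, hH⟩ := CfsgLib.GolayExt.exists_complement M.π.ker M.comm_ker M.card_ker M.π rfl
    M.range s hs fun R hR => by
      obtain ⟨r, hr, rfl⟩ := ruleAt_surj hR
      exact hrel r hr
  exact ⟨H, hH.isCompl.inf_eq_bot, hH.isCompl.sup_eq_top⟩

/-- Two extensions with lifts satisfying the Sylow relations up to the same elements of the kernel
are isomorphic. -/
theorem ExtModel.nonempty_mulEquiv {E' : Type*} [Group E'] [Finite E']
    (M : ExtModel act E) (M' : ExtModel act E') (c : ℕ → V) (s : ℕ → E) (s' : ℕ → E')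
    (hs : ∀ k < 7, IsTbl (M.π (s k)) (sylTbls.getD k 0))
    (hs' : ∀ k < 7, IsTbl (M'.π (s' k)) (sylTbls.getD k 0))
    (hrel : ∀ r < 28, liftW s (ruleAt sylRules r).1 = M.β (c r) * liftW s (ruleAt sylRules r).2)
    (hrel' : ∀ r < 28,
      liftW s' (ruleAt sylRules r).1 = M'.β (c r) * liftW s' (ruleAt sylRules r).2) :
    Nonempty (E ≃* E') := by
  classical
  let P : Subgroup (E × E') :=
    (M.π.comp (MonoidHom.fst E E')).eqLocus (M'.π.comp (MonoidHom.snd E E'))
  let p : P →* E := (MonoidHom.fst E E').comp P.subtype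
  let p' : P →* E' := (MonoidHom.snd E E').comp P.subtype
  have hP : ∀ z : P, M.π (p z) = M'.π (p' z) := fun z => z.2
  let ι : V → V → P := fun x y => ⟨(M.β x, M'.β y), (M.π_β x).trans (M'.π_β y).symm⟩
  have ι_add : ∀ x y u v, ι x y * ι u v = ι (x + u) (y + v) := fun x y u v =>
    Subtype.ext (Prod.ext (M.add x u).symm (M'.add y v).symm)
  have ι_zero : ι 0 0 = 1 := Subtype.ext (Prod.ext M.map_zero M'.map_zero)
  have hconj : ∀ (z : P) x y, z * ι x y = ι (act (M.π (p z)) x) (act (M.π (p z)) y) * z :=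
    fun z x y => Subtype.ext (Prod.ext (M.conj _ x) (by rw [hP z]; exact M'.conj _ y))
  let D : Subgroup P :=
    { carrier := Set.range fun x => ι x x
      one_mem' := ⟨0, ι_zero⟩
      mul_mem' := by rintro _ _ ⟨x, rfl⟩ ⟨y, rfl⟩; exact ⟨x + y, (ι_add x x y y).symm⟩
      inv_mem' := by
        rintro _ ⟨x, rfl⟩
        exact ⟨x, (inv_eq_of_mul_eq_one_right (by rw [ι_add, zmod2_add_eq_zero, ι_zero])).symm⟩ }
  have hD : D.Normal := ⟨by
    rintro _ ⟨x, rfl⟩ z
    exact ⟨act (M.π (p z)) x, by rw [hconj, mul_inv_cancel_right]⟩⟩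
  let q : P →* P ⧸ D := QuotientGroup.mk' D
  let πP : P →* PP := M.π.comp p
  have hDker : D ≤ πP.ker := by rintro _ ⟨x, rfl⟩; exact M.π_β x
  let πG : P ⧸ D →* PP := QuotientGroup.lift D πP hDker
  have hkerP : ∀ z : P, πP z = 1 → ∃ v, q z = q (ι v 0) := by
    intro z hz
    obtain ⟨x, hx⟩ := (M.mem_ker _).1 hz
    obtain ⟨y, hy⟩ := (M'.mem_ker _).1 ((hP z).symm.trans hz)
    refine ⟨x + y, ?_⟩
    have hz' : z = ι x y := Subtype.ext (Prod.ext hx.symm hy.symm)
    rw [hz', eq_comm]
    refine QuotientGroup.eq.2 ⟨y, ?_⟩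
    show ι y y = _
    rw [eq_inv_mul_iff_mul_eq, ι_add, zero_add]
    congr 1
    rw [add_assoc, zmod2_add_eq_zero, add_zero]
  have hkerG : ∀ w : P ⧸ D, w ∈ πG.ker ↔ ∃ v, q (ι v 0) = w := by
    intro w
    constructor
    · intro hw
      obtain ⟨z, rfl⟩ := QuotientGroup.mk_surjective w
      obtain ⟨v, hv⟩ := hkerP z hw
      exact ⟨v, hv.symm⟩
    · rintro ⟨v, rfl⟩
      exact M.π_β v
  have hγinj : Function.Injective fun v => q (ι v 0) := by
    intro u v h
    obtain ⟨x, hx⟩ := QuotientGroup.eq.1 h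
    have h1 : ι v 0 = ι u 0 * ι x x := by
      have hx' : ι x x = (ι u 0)⁻¹ * ι v 0 := hx
      rw [hx', mul_inv_cancel_left]
    rw [ι_add] at h1
    have h2 := congrArg (fun z : P => p' z) h1
    have hx0 : x = 0 := by
      have := M'.inj (h2 : M'.β 0 = M'.β (0 + x))
      rw [zero_add] at this; exact this.symm
    have h3 : v = u + x := M.inj (congrArg (fun z : P => p z) h1)
    rw [h3, hx0, add_zero]
  have hcard : Nat.card πG.ker = 2 ^ 11 := by
    have h : (πG.ker : Set (P ⧸ D)) = Set.range fun v => q (ι v 0) := by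
      ext w; exact hkerG w
    rw [← SetLike.coe_sort_coe, h, Nat.card_range_of_injective hγinj, Nat.card_fun, Nat.card_zmod,
      Nat.card_fin]
  have hcomm : IsMulCommutative πG.ker := by
    refine ⟨⟨fun a b => Subtype.ext ?_⟩⟩
    obtain ⟨x, hx⟩ := (hkerG a).1 a.2
    obtain ⟨y, hy⟩ := (hkerG b).1 b.2
    simp only [Subgroup.coe_mul]
    rw [← hx, ← hy, ← map_mul, ← map_mul, ι_add, ι_add, add_comm]
  have hrange : πG.range = Spor.M23 := by
    rw [← M.range]
    apply le_antisymm
    · rintro _ ⟨w, rfl⟩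
      obtain ⟨z, rfl⟩ := QuotientGroup.mk_surjective w
      exact ⟨p z, rfl⟩
    · rintro σ ⟨e, rfl⟩
      have : M.π e ∈ M'.π.range := by rw [M'.range, ← M.range]; exact ⟨e, rfl⟩
      obtain ⟨e', he'⟩ := this
      exact ⟨q ⟨(e, e'), he'.symm⟩, rfl⟩
  let S : ℕ → P := fun k => if hk : k < 7 then ⟨(s k, s' k), (hs k hk).ext (hs' k hk)⟩ else 1
  have hSp : ∀ w : List ℕ, (∀ k ∈ w, k < 7) →
      p (liftW S w) = liftW s w ∧ p' (liftW S w) = liftW s' w := by
    intro w hw
    simp only [liftW, map_list_prod, List.map_map]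
    constructor <;> refine congrArg List.prod (List.map_congr_left fun k hk => ?_) <;>
      simp [S, hw k hk, p, p']
  have hlt : ∀ r < 28, ∀ k ∈ (ruleAt sylRules r).1 ++ (ruleAt sylRules r).2, k < 7 := by
    have h : ((List.range 28).all fun r =>
        ((ruleAt sylRules r).1 ++ (ruleAt sylRules r).2).all fun k => decide (k < 7)) = true := by
      decide +kernel
    simp only [List.all_eq_true, List.mem_range, decide_eq_true_eq] at h
    exact h
  obtain ⟨H, hH⟩ := CfsgLib.GolayExt.exists_complement πG.ker hcomm hcard πG rfl hrange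
    (fun k => q (S k))
    (fun k hk => by
      show IsTbl (M.π (p (S k))) _
      simp only [S, dif_pos hk]
      exact hs k hk)
    (fun R hR => by
      obtain ⟨r, hr, rfl⟩ := ruleAt_surj hR
      have hmap : ∀ w : List ℕ, liftW (fun k => q (S k)) w = q (liftW S w) := fun w => by
        simp only [liftW, map_list_prod, List.map_map]; rfl
      rw [hmap, hmap]
      obtain ⟨a1, a2⟩ := hSp _ fun k hk => hlt r hr k (List.mem_append_left _ hk)
      obtain ⟨b1, b2⟩ := hSp _ fun k hk => hlt r hr k (List.mem_append_right _ hk)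
      have e : liftW S (ruleAt sylRules r).1 = ι (c r) (c r) * liftW S (ruleAt sylRules r).2 := by
        refine Subtype.ext (Prod.ext ?_ ?_)
        · show p _ = M.β (c r) * p _
          rw [a1, b1]; exact hrel r hr
        · show p' _ = M'.β (c r) * p' _
          rw [a2, b2]; exact hrel' r hr
      rw [e, map_mul, (QuotientGroup.eq_one_iff _).2 ⟨c r, rfl⟩ |> (fun h => show q (ι (c r) (c r)) = 1 from h),
        one_mul])
  let R : Subgroup P := H.comap q
  have hsplit : ∀ z : P, ∃ (m : P ⧸ D) (v : V), m ∈ H ∧ q z = m * q (ι v 0) := by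
    intro z
    obtain ⟨⟨⟨m, hm⟩, ⟨a, ha⟩⟩, hma, -⟩ := hH.existsUnique (q z)
    obtain ⟨v, hv⟩ := (hkerG a).1 ha
    exact ⟨m, v, hm, by rw [hv]; exact hma.symm⟩
  have hRker : ∀ z : P, z ∈ R → πP z = 1 → ∃ x, ι x x = z := by
    intro z hz h
    have : q z ∈ H ⊓ πG.ker := ⟨hz, h⟩
    rw [hH.isCompl.inf_eq_bot, Subgroup.mem_bot] at this
    exact (QuotientGroup.eq_one_iff z).1 this
  have b1 : Function.Bijective (p.comp R.subtype) := by
    constructor
    · rw [injective_iff_map_eq_one]
      rintro ⟨z, hz⟩ h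
      have h' : p z = 1 := h
      obtain ⟨x, hx⟩ := hRker z hz (show M.π (p z) = 1 by rw [h', map_one])
      rw [← hx] at h'
      have : x = 0 := M.inj (h'.trans M.map_zero.symm)
      exact Subtype.ext (hx.symm.trans (by rw [this]; exact ι_zero))
    · intro e
      have : M.π e ∈ M'.π.range := by rw [M'.range, ← M.range]; exact ⟨e, rfl⟩
      obtain ⟨e', he'⟩ := this
      let y : P := ⟨(e, e'), he'.symm⟩
      obtain ⟨m, v, hm, hv⟩ := hsplit y
      have hswap : q (ι v 0) = q (ι 0 v) := by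
        refine QuotientGroup.eq.2 ⟨v, ?_⟩
        show ι v v = _
        rw [eq_inv_mul_iff_mul_eq, ι_add, zmod2_add_eq_zero, zero_add]
      refine ⟨⟨y * (ι 0 v)⁻¹, ?_⟩, ?_⟩
      · show q (y * (ι 0 v)⁻¹) ∈ H
        rw [map_mul, map_inv, hv, hswap, mul_inv_cancel_right]; exact hm
      · show p (y * (ι 0 v)⁻¹) = e
        rw [map_mul, map_inv]
        show e * (M.β 0)⁻¹ = e
        rw [M.map_zero, inv_one, mul_one]
  have b2 : Function.Bijective (p'.comp R.subtype) := by
    constructor
    · rw [injective_iff_map_eq_one]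
      rintro ⟨z, hz⟩ h
      have h' : p' z = 1 := h
      obtain ⟨x, hx⟩ := hRker z hz (show M.π (p z) = 1 by rw [hP, h', map_one])
      rw [← hx] at h'
      have : x = 0 := M'.inj (h'.trans M'.map_zero.symm)
      exact Subtype.ext (hx.symm.trans (by rw [this]; exact ι_zero))
    · intro e'
      have : M'.π e' ∈ M.π.range := by rw [M.range, ← M'.range]; exact ⟨e', rfl⟩
      obtain ⟨e, he⟩ := this
      let y : P := ⟨(e, e'), he⟩
      obtain ⟨m, v, hm, hv⟩ := hsplit y
      refine ⟨⟨y * (ι v 0)⁻¹, ?_⟩, ?_⟩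
      · show q (y * (ι v 0)⁻¹) ∈ H
        rw [map_mul, map_inv, hv, mul_inv_cancel_right]; exact hm
      · show p' (y * (ι v 0)⁻¹) = e'
        rw [map_mul, map_inv]
        show e' * (M'.β 0)⁻¹ = e'
        rw [M'.map_zero, inv_one, mul_one]
  exact ⟨(MulEquiv.ofBijective _ b1).symm.trans (MulEquiv.ofBijective _ b2)⟩

end CfsgLib.GolayExt
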