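import Cfsg.Agent.Lib.GolayExt.Extension

/-!
The two modules as `ExtModel`s, and the splitting and uniqueness theorems.
-/

set_option autoImplicit false

namespace CfsgLib.GolayExt

open Cfsg CfsgLib.Golay

local notation "PP" => Equiv.Perm GolayPt
local notation "WW" => GolayPt → ZMod 2

/-- The action on the code module. -/
def codeAct (σ : PP) (x : V) : V := codeCoord (codeWord x ∘ ⇑σ⁻¹)

/-- The action on the cocode module. -/
def cocodeAct (σ : PP) (x : V) : V := cocodeCoord (cocodeRep x ∘ ⇑σ⁻¹)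

theorem codeMats_ok : ((List.range codeMats.length).all fun k =>
    codeMatOK (codeGens.getD k 0) (codeMats.getD k [])) = true ∧
    gensOK codeGens codeMats.length codeRules = true := by
  decide +kernel

theorem cocodeMats_ok : ((List.range cocodeMats.length).all fun k =>
    cocodeMatOK (cocodeGens.getD k 0) (cocodeMats.getD k [])) = true ∧
    gensOK cocodeGens cocodeMats.length cocodeRules = true := by
  decide +kernel

theorem codeAct_eq : ∀ k < codeMats.length, ∀ σ, IsTbl σ (codeGens.getD k 0) →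
    codeAct σ = appV (codeMats.getD k []) := by
  intro k hk σ hσ
  have h := List.all_eq_true.1 codeMats_ok.1 k (List.mem_range.2 hk)
  funext x
  rw [codeAct, codeWord_comp hσ h, codeCoord_codeWord]

theorem cocodeAct_eq : ∀ k < cocodeMats.length, ∀ σ, IsTbl σ (cocodeGens.getD k 0) →
    cocodeAct σ = appV (cocodeMats.getD k []) := by
  intro k hk σ hσ
  have h := List.all_eq_true.1 cocodeMats_ok.1 k (List.mem_range.2 hk)
  funext x
  exact cocodeCoord_comp hσ h x

theorem codeWord_comp_mem {σ : PP} (hσ : σ ∈ Spor.M23) (x : V) :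
    codeWord x ∘ ⇑σ⁻¹ = codeWord (codeAct σ x) := by
  obtain ⟨h24, h0⟩ := mem_M23_iff.1 hσ
  refine (codeWord_codeCoord (comp_symm_mem_golayCode h24 (codeWord_mem x).1) ?_).symm
  have e : σ⁻¹ none = none := Equiv.Perm.inv_eq_iff_eq.2 h0.symm
  show codeWord x (σ⁻¹ none) = 0
  rw [e]; exact (codeWord_mem x).2

variable {E : Type*} [Group E] (N : Subgroup E) [N.Normal] (φ : E ⧸ N ≃* ↥Spor.M23)

/-- The map to permutations given by an isomorphism of the quotient with `M23`. -/
def quotMap : E →* PP := Spor.M23.subtype.comp (φ.toMonoidHom.comp (QuotientGroup.mk' N))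

theorem quotMap_apply (g : E) : quotMap N φ g = ((φ (QuotientGroup.mk g) : ↥Spor.M23) : PP) := rfl

theorem quotMap_eq_one {g : E} : quotMap N φ g = 1 ↔ g ∈ N := by
  rw [quotMap_apply, OneMemClass.coe_eq_one, map_eq_one_iff φ φ.injective,
    QuotientGroup.eq_one_iff]

theorem quotMap_range : (quotMap N φ).range = Spor.M23 := by
  apply le_antisymm
  · rintro _ ⟨g, rfl⟩; exact (φ _).2
  · intro σ hσ
    obtain ⟨g, hg⟩ := QuotientGroup.mk_surjective (φ.symm ⟨σ, hσ⟩)
    exact ⟨g, by rw [quotMap_apply, hg, MulEquiv.apply_symm_apply]⟩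

/-- An extension by the code module as a model. -/
theorem nonempty_codeModel (ψ : Additive ↥N →+ WW) (hinj : Function.Injective ψ)
    (hrange : ∀ w : WW, w ∈ Set.range ψ ↔ (w ∈ golayCode ∧ w none = 0))
    (hψ : ∀ (g : E) (n : ↥N),
      ψ (Additive.ofMul ⟨g * n * g⁻¹, ‹N.Normal›.conj_mem n n.2 g⟩)
        = ψ (Additive.ofMul n) ∘ ⇑((quotMap N φ g)⁻¹)) :
    ∃ M : ExtModel codeAct E, M.π = quotMap N φ := by
  choose f hf using fun x => (hrange (codeWord x)).2 (codeWord_mem x)
  refine ⟨{ π := quotMap N φ, β := fun x => ((f x).toMul : E), add := fun x y => ?_,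
            inj := fun x y e => ?_, mem_ker := fun e => ?_, range := quotMap_range N φ,
            conj := fun g x => ?_ }, rfl⟩
  · have : f (x + y) = f x + f y := hinj (by rw [map_add, hf, hf, hf, map_add])
    show ((f (x + y)).toMul : E) = _
    rw [this]; rfl
  · refine codeWord_injective ?_
    rw [← hf x, ← hf y]
    exact congrArg ψ (Subtype.ext e : (f x).toMul = (f y).toMul)
  · rw [quotMap_eq_one]
    constructor
    · intro he
      obtain ⟨x, hx⟩ := mem_code_none_iff.1 ((hrange _).1 ⟨Additive.ofMul (⟨e, he⟩ : ↥N), rfl⟩)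
      refine ⟨x, ?_⟩
      have : f x = Additive.ofMul (⟨e, he⟩ : ↥N) := hinj ((hf x).trans hx)
      rw [this]; rfl
    · rintro ⟨x, rfl⟩; exact (f x).toMul.2
  · have h := hψ g (f x).toMul
    rw [ofMul_toMul, hf,
      codeWord_comp_mem (by rw [← quotMap_range N φ]; exact ⟨g, rfl⟩) x, ← hf] at h
    have e := congrArg (fun n : Additive ↥N => (n.toMul : E)) (hinj h)
    simp only [toMul_ofMul] at e
    rw [← e, inv_mul_cancel_right]

/-- An extension by the cocode module as a model. -/
theorem nonempty_cocodeModel (θ : WW →+ Additive ↥N) (hsurj : Function.Surjective θ)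
    (hker : ∀ w : WW, θ w = 0 ↔ (w ∈ golayCode ∨ w + Pi.single none 1 ∈ golayCode))
    (hθ : ∀ (g : E) (w : WW),
      ((θ (w ∘ ⇑((quotMap N φ g)⁻¹))).toMul : E) = g * ((θ w).toMul : E) * g⁻¹) :
    ∃ M : ExtModel cocodeAct E, M.π = quotMap N φ ∧
      ∀ x, M.β x = ((θ (cocodeRep x)).toMul : E) := by
  have hred : ∀ w, θ (cocodeRep (cocodeCoord w)) = θ w := fun w => by
    have h : θ (w + cocodeRep (cocodeCoord w)) = 0 :=
      (hker _).2 (mem_cocodeKer.1 (cocode_decomp w))
    calc θ (cocodeRep (cocodeCoord w))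
        = θ w + θ (w + cocodeRep (cocodeCoord w)) := by
          rw [← map_add, ← add_assoc, zmod2_add_eq_zero, zero_add]
      _ = θ w := by rw [h, add_zero]
  refine ⟨{ π := quotMap N φ, β := fun x => ((θ (cocodeRep x)).toMul : E), add := fun x y => ?_,
            inj := fun x y e => ?_, mem_ker := fun e => ?_, range := quotMap_range N φ,
            conj := fun g x => ?_ }, rfl, fun _ => rfl⟩
  · simp only [map_add, toMul_add, Subgroup.coe_mul]
  · have e' : θ (cocodeRep x) = θ (cocodeRep y) := (Subtype.ext e : (θ _).toMul = (θ _).toMul)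
    have h : θ (cocodeRep (x + y)) = 0 := by
      rw [map_add, map_add, ← e', ← map_add, zmod2_add_eq_zero, map_zero]
    have h' := cocodeCoord_ker (mem_cocodeKer.2 ((hker _).1 h))
    rw [cocodeCoord_rep] at h'
    calc x = (x + y) + y := by rw [add_assoc, zmod2_add_eq_zero, add_zero]
      _ = y := by rw [h', zero_add]
  · rw [quotMap_eq_one]
    constructor
    · intro he
      obtain ⟨w, hw⟩ := hsurj (Additive.ofMul (⟨e, he⟩ : ↥N))
      exact ⟨cocodeCoord w, by rw [hred, hw]; rfl⟩
    · rintro ⟨x, rfl⟩; exact (θ (cocodeRep x)).toMul.2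
  · have h := hθ g (cocodeRep x)
    have e : ((θ (cocodeRep (cocodeAct (quotMap N φ g) x))).toMul : E) =
        g * ((θ (cocodeRep x)).toMul : E) * g⁻¹ := by
      rw [cocodeAct, hred]; exact h
    rw [e, inv_mul_cancel_right]

variable {N φ}

theorem ker_quotMap : (quotMap N φ).ker = N := by
  ext g; rw [MonoidHom.mem_ker, quotMap_eq_one]

theorem codeModel_splits [Finite E] (M : ExtModel codeAct E) :
    ∃ H : Subgroup E, H ⊓ M.π.ker = ⊥ ∧ H ⊔ M.π.ker = ⊤ := by
  obtain ⟨t, s, hs, ht, hrel⟩ := M.exists_normalised codeMats_ok.2 codeAct_eq codeNorm_ok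
  refine M.exists_complement s hs fun r hr => ?_
  rw [hrel r hr, ht rfl, zero_smul, M.map_zero, one_mul]

theorem cocodeModel_unique [Finite E] {E' : Type*} [Group E'] [Finite E']
    (M : ExtModel cocodeAct E) (M' : ExtModel cocodeAct E')
    (hns : ∀ H : Subgroup E, H ⊓ M.π.ker = ⊥ → H ⊔ M.π.ker ≠ ⊤)
    (hns' : ∀ H : Subgroup E', H ⊓ M'.π.ker = ⊥ → H ⊔ M'.π.ker ≠ ⊤) :
    Nonempty (E ≃* E') := by
  obtain ⟨t, s, hs, -, hrel⟩ := M.exists_normalised cocodeMats_ok.2 cocodeAct_eq cocodeNorm_ok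
  obtain ⟨t', s', hs', -, hrel'⟩ := M'.exists_normalised cocodeMats_ok.2 cocodeAct_eq cocodeNorm_ok
  have h1 : t = 1 := by
    rcases (by decide : ∀ c : ZMod 2, c = 0 ∨ c = 1) t with rfl | rfl
    · obtain ⟨H, ha, hb⟩ := M.exists_complement s hs fun r hr => by
        rw [hrel r hr, zero_smul, M.map_zero, one_mul]
      exact absurd hb (hns H ha)
    · rfl
  have h1' : t' = 1 := by
    rcases (by decide : ∀ c : ZMod 2, c = 0 ∨ c = 1) t' with rfl | rfl
    · obtain ⟨H, ha, hb⟩ := M'.exists_complement s' hs' fun r hr => by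
        rw [hrel' r hr, zero_smul, M'.map_zero, one_mul]
      exact absurd hb (hns' H ha)
    · rfl
  subst h1
  subst h1'
  exact M.nonempty_mulEquiv M' _ s s' hs hs' hrel hrel'

end CfsgLib.GolayExt
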