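import Mathlib

/-!
Vectors over the field with two elements in eleven coordinates as bit masks, and symbolic vectors
whose coordinates are linear forms in unknown bits.
-/

set_option autoImplicit false

namespace CfsgLib.GolayExt

/-- Eleven coordinates over the field with two elements. -/
abbrev V := Fin 11 → ZMod 2

/-- A bit as a number modulo two. -/
def bitZ (b : Bool) : ZMod 2 := if b then 1 else 0

theorem bitZ_xor (a b : Bool) : bitZ (a ^^ b) = bitZ a + bitZ b := by
  revert a b; decide

/-- The vector of a mask. -/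
def bitsV (n : ℕ) : V := fun i => bitZ (n.testBit i)

theorem bitsV_zero : bitsV 0 = 0 := by
  funext i; simp [bitsV, bitZ]

theorem bitsV_xor (a b : ℕ) : bitsV (a ^^^ b) = bitsV a + bitsV b := by
  funext i; simp [bitsV, Nat.testBit_xor, bitZ_xor]

/-- Exclusive or of `f 0, …, f (n - 1)`. -/
def xorUpTo (f : ℕ → ℕ) : ℕ → ℕ
  | 0 => 0
  | n + 1 => xorUpTo f n ^^^ f n

theorem bitsV_xorUpTo (f : ℕ → ℕ) (n : ℕ) :
    bitsV (xorUpTo f n) = ∑ c ∈ Finset.range n, bitsV (f c) := by
  induction n with
  | zero => simp [xorUpTo, bitsV_zero]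
  | succ n ih => rw [xorUpTo, bitsV_xor, ih, Finset.sum_range_succ]

/-- A matrix given by the masks of its columns, applied to a vector. -/
def appV (M : List ℕ) (x : V) : V := ∑ c : Fin 11, x c • bitsV (M.getD c 0)

theorem appV_add (M : List ℕ) (x y : V) : appV M (x + y) = appV M x + appV M y := by
  simp [appV, add_smul, Finset.sum_add_distrib]

theorem appV_zero (M : List ℕ) : appV M 0 = 0 := by simp [appV]

theorem appV_apply (M : List ℕ) (x : V) (i : Fin 11) :
    appV M x i = ∑ c : Fin 11, x c * bitZ ((M.getD c 0).testBit i) := by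
  simp [appV, bitsV]

/-- A matrix applied to a mask. -/
def appN (M : List ℕ) (n : ℕ) : ℕ := xorUpTo (fun c => bif n.testBit c then M.getD c 0 else 0) 11

theorem bitsV_appN (M : List ℕ) (n : ℕ) : bitsV (appN M n) = appV M (bitsV n) := by
  rw [appN, bitsV_xorUpTo, appV]
  simp only [bitsV]
  rw [Fin.sum_univ_eq_sum_range (fun c => bitZ (n.testBit c) • bitsV (M.getD c 0))]
  refine Finset.sum_congr rfl fun c _ => ?_
  cases n.testBit c <;> simp [bitZ, bitsV_zero]

theorem zmod2_add_eq_zero {M : Type*} [AddCommGroup M] [Module (ZMod 2) M] (x : M) : x + x = 0 := by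
  rw [← two_smul (ZMod 2) x, show (2 : ZMod 2) = 0 from rfl, zero_smul]

theorem bitsV_two_pow (i : Fin 11) : bitsV (2 ^ (i : ℕ)) = Pi.single i 1 := by
  funext j
  simp only [bitsV, bitZ, Nat.testBit_two_pow, decide_eq_true_eq, Pi.single_apply]
  exact if_congr ⟨fun h => (Fin.ext h).symm, fun h => by rw [h]⟩ rfl rfl

theorem exists_bitsV (x : V) : ∃ n < 2 ^ 11, bitsV n = x := by
  classical
  have key : ∀ s : Finset (Fin 11),
      ∃ n < 2 ^ 11, bitsV n = ∑ i ∈ s, x i • (Pi.single i 1 : V) := by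
    intro s
    induction s using Finset.induction_on with
    | empty => exact ⟨0, by norm_num, by rw [bitsV_zero, Finset.sum_empty]⟩
    | insert i s hi ih =>
      obtain ⟨n, hn, e⟩ := ih
      rcases (by decide : ∀ c : ZMod 2, c = 0 ∨ c = 1) (x i) with hx | hx
      · exact ⟨n, hn, by rw [Finset.sum_insert hi, hx, zero_smul, zero_add, e]⟩
      · refine ⟨2 ^ (i : ℕ) ^^^ n, Nat.xor_lt_two_pow (Nat.pow_lt_pow_right (by norm_num) i.isLt) hn,
          ?_⟩
        rw [Finset.sum_insert hi, hx, one_smul, bitsV_xor, bitsV_two_pow, e]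
  obtain ⟨n, hn, e⟩ := key Finset.univ
  refine ⟨n, hn, e.trans ?_⟩
  funext j
  simp [Pi.single_apply, Finset.sum_apply]

/-! ### Symbolic vectors -/

/-- The value of a linear form given by a mask of unknown bits. -/
def ev (U : ℕ → ZMod 2) (m : ℕ) : ZMod 2 :=
  ∑ j ∈ Finset.range 512, bitZ (m.testBit j) * U j

theorem ev_zero (U : ℕ → ZMod 2) : ev U 0 = 0 := by simp [ev, bitZ]

theorem ev_xor (U : ℕ → ZMod 2) (a b : ℕ) : ev U (a ^^^ b) = ev U a + ev U b := by
  simp [ev, Nat.testBit_xor, bitZ_xor, add_mul, Finset.sum_add_distrib]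

theorem ev_two_pow (U : ℕ → ZMod 2) {j : ℕ} (hj : j < 512) : ev U (2 ^ j) = U j := by
  rw [ev, Finset.sum_eq_single j]
  · simp [bitZ]
  · intro i _ hi; simp [bitZ, Ne.symm hi]
  · intro h; exact absurd (Finset.mem_range.2 hj) h

theorem ev_xorUpTo (U : ℕ → ZMod 2) (f : ℕ → ℕ) (n : ℕ) :
    ev U (xorUpTo f n) = ∑ c ∈ Finset.range n, ev U (f c) := by
  induction n with
  | zero => simp [xorUpTo, ev_zero]
  | succ n ih => rw [xorUpTo, ev_xor, ih, Finset.sum_range_succ]

/-- The value of a symbolic vector. -/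
def evS (U : ℕ → ZMod 2) (S : List ℕ) : V := fun i => ev U (S.getD i 0)

/-- The eleven entries of a symbolic vector. -/
def mkS (f : ℕ → ℕ) : List ℕ := (List.range 11).map f

theorem getD_mkS (f : ℕ → ℕ) {i : ℕ} (hi : i < 11) : (mkS f).getD i 0 = f i := by
  rw [mkS, List.getD_eq_getElem _ _ (by simpa using hi), List.getElem_map, List.getElem_range]

theorem evS_mkS (U : ℕ → ZMod 2) (f : ℕ → ℕ) : evS U (mkS f) = fun i : Fin 11 => ev U (f i) := by
  funext i; rw [evS, getD_mkS f i.isLt]

/-- The unknown vector attached to relation `r`. -/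
def unitS (r : ℕ) : List ℕ := mkS fun i => 2 ^ (r * 11 + i)

/-- The value of the unknown vector attached to relation `r`. -/
def uvec (U : ℕ → ZMod 2) (r : ℕ) : V := fun i => U (r * 11 + i)

theorem evS_unitS (U : ℕ → ZMod 2) {r : ℕ} (hr : r < 46) : evS U (unitS r) = uvec U r := by
  rw [unitS, evS_mkS]
  funext i
  exact ev_two_pow U (by have := i.isLt; omega)

/-- The empty symbolic vector. -/
def zeroS : List ℕ := mkS fun _ => 0

theorem evS_zeroS (U : ℕ → ZMod 2) : evS U zeroS = 0 := by
  rw [zeroS, evS_mkS]; funext i; exact ev_zero U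

/-- Sum of symbolic vectors. -/
def addS (S T : List ℕ) : List ℕ := mkS fun i => S.getD i 0 ^^^ T.getD i 0

theorem evS_addS (U : ℕ → ZMod 2) (S T : List ℕ) : evS U (addS S T) = evS U S + evS U T := by
  rw [addS, evS_mkS]; funext i; exact ev_xor U _ _

/-- A matrix applied to a symbolic vector. -/
def appS (M S : List ℕ) : List ℕ :=
  mkS fun i => xorUpTo (fun c => bif (M.getD c 0).testBit i then S.getD c 0 else 0) 11

theorem evS_appS (U : ℕ → ZMod 2) (M S : List ℕ) : evS U (appS M S) = appV M (evS U S) := by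
  rw [appS, evS_mkS]
  funext i
  rw [ev_xorUpTo, appV_apply]
  simp only [evS]
  rw [
    Fin.sum_univ_eq_sum_range (fun c => ev U (S.getD c 0) * bitZ ((M.getD c 0).testBit i))]
  refine Finset.sum_congr rfl fun c _ => ?_
  cases (M.getD c 0).testBit i <;> simp [bitZ, ev_zero]

/-- The exclusive or of the listed masks selected by the bits of `sel`. -/
def selX : List ℕ → ℕ → ℕ
  | [], _ => 0
  | a :: as, sel => (bif sel.testBit 0 then a else 0) ^^^ selX as (sel / 2)

theorem ev_selX (U : ℕ → ZMod 2) : ∀ (rows : List ℕ) (sel : ℕ), (∀ a ∈ rows, ev U a = 0) →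
    ev U (selX rows sel) = 0
  | [], _, _ => ev_zero U
  | a :: as, sel, h => by
    rw [selX, ev_xor, ev_selX U as _ fun b hb => h b (List.mem_cons_of_mem _ hb), add_zero]
    cases sel.testBit 0
    · exact ev_zero U
    · exact h a (List.mem_cons_self ..)

end CfsgLib.GolayExt
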