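import Cfsg.Agent.Lib.GolayExt.Instances

/-!
A non-split extension of `M23` by the cocode module: pairs of a permutation in `M23` and a sign
function on the code words avoiding the extra point whose coboundary is the defect of the Parker
factor set.
-/

set_option autoImplicit false

namespace CfsgLib.GolayExt

open Cfsg CfsgLib.Golay

local notation "PP" => Equiv.Perm GolayPt
local notation "WW" => GolayPt → ZMod 2

theorem codeAct_mul {σ τ : PP} (hσ : σ ∈ Spor.M23) (hτ : τ ∈ Spor.M23) (x : V) :
    codeAct (σ * τ) x = codeAct σ (codeAct τ x) := by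
  apply codeWord_injective
  rw [← codeWord_comp_mem (mul_mem hσ hτ), ← codeWord_comp_mem hσ, ← codeWord_comp_mem hτ]
  funext p
  simp [mul_inv_rev]

theorem codeAct_one (x : V) : codeAct 1 x = x := by
  apply codeWord_injective
  rw [← codeWord_comp_mem (one_mem _)]
  funext p
  simp

theorem codeAct_add {σ : PP} (hσ : σ ∈ Spor.M23) (x y : V) :
    codeAct σ (x + y) = codeAct σ x + codeAct σ y := by
  apply codeWord_injective
  rw [← codeWord_comp_mem hσ, map_add, map_add, ← codeWord_comp_mem hσ, ← codeWord_comp_mem hσ]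
  rfl

/-- The number of a coordinate vector. -/
noncomputable def enc (x : V) : ℕ := Classical.choose (exists_bitsV x)

theorem enc_bitsV (n : ℕ) : enc (bitsV n) = n % 2 ^ 11 := by
  obtain ⟨h1, h2⟩ : enc (bitsV n) < 2 ^ 11 ∧ bitsV (enc (bitsV n)) = bitsV n :=
    Classical.choose_spec (exists_bitsV (bitsV n))
  apply Nat.eq_of_testBit_eq
  intro i
  rcases Nat.lt_or_ge i 11 with hi | hi
  · have e := congrFun h2 ⟨i, hi⟩
    simp only [bitsV] at e
    rw [Nat.testBit_mod_two_pow, decide_eq_true hi, Bool.true_and]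
    revert e
    generalize (enc (bitsV n)).testBit i = a
    generalize n.testBit i = c
    revert a c
    decide
  · rw [Nat.testBit_mod_two_pow, decide_eq_false (by omega), Bool.false_and,
      Nat.testBit_lt_two_pow (lt_of_lt_of_le h1 (Nat.pow_le_pow_right two_pos hi))]

/-- The Parker factor set. -/
noncomputable def phi (a b : V) : ZMod 2 :=
  ∑ i : Fin 11, b i * bitZ ((parkerFactor.getD i 0).testBit (enc a))

theorem phi_add (a b c : V) : phi a (b + c) = phi a b + phi a c := by
  simp [phi, add_mul, Finset.sum_add_distrib]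

/-- The number `1` or `0` is the value of a Boolean. -/
def b2n (b : Bool) : ℕ := bif b then 1 else 0

/-- A sum of products of bits modulo two. -/
def parity (f : ℕ → Bool) : Bool := (xorUpTo (fun i => b2n (f i)) 11).testBit 0

theorem sum_bitZ (f : ℕ → Bool) : ∑ i : Fin 11, bitZ (f i) = bitZ (parity f) := by
  have h := congrFun (bitsV_xorUpTo (fun i => b2n (f i)) 11) 0
  rw [Finset.sum_apply] at h
  rw [Fin.sum_univ_eq_sum_range (fun i => bitZ (f i))]
  refine (Finset.sum_congr rfl fun i _ => ?_).trans h.symm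
  simp only [bitsV, b2n]
  cases f i <;> rfl

theorem bitZ_and (a b : Bool) : bitZ (a && b) = bitZ a * bitZ b := by revert a b; decide

/-- The factor set on numbers. -/
def phiN (a b : ℕ) : Bool :=
  parity fun i => b.testBit i && (parkerFactor.getD i 0).testBit (a % 2 ^ 11)

theorem phi_bitsV (a b : ℕ) : phi (bitsV a) (bitsV b) = bitZ (phiN a b) := by
  rw [phiN, ← sum_bitZ, phi, enc_bitsV]
  exact Finset.sum_congr rfl fun i _ => (bitZ_and _ _).symm

/-- The defect of the factor set under a permutation. -/
noncomputable def defect (σ : PP) (a b : V) : ZMod 2 :=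
  phi (codeAct σ a) (codeAct σ b) + phi a b

/-- `f` is a sign function for `σ`. -/
def IsSign (σ : PP) (f : V → ZMod 2) : Prop :=
  ∀ a b, f (a + b) + f a + f b = defect σ a b

theorem defect_one (a b : V) : defect 1 a b = 0 := by
  rw [defect, codeAct_one, codeAct_one]; exact zmod2_add_eq_zero _

theorem IsSign.one {f : V → ZMod 2} (h : IsSign 1 f) (a b : V) : f (a + b) = f a + f b := by
  have e := h a b
  rw [defect_one] at e
  revert e
  generalize f (a + b) = x
  generalize f a = y
  generalize f b = z
  revert x y z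
  decide

theorem IsSign.mul {σ τ : PP} (hσ : σ ∈ Spor.M23) (hτ : τ ∈ Spor.M23) {f g : V → ZMod 2}
    (hf : IsSign σ f) (hg : IsSign τ g) : IsSign (σ * τ) fun a => f (codeAct τ a) + g a := by
  intro a b
  have e1 := hf (codeAct τ a) (codeAct τ b)
  have e2 := hg a b
  simp only [defect, codeAct_add hτ, ← codeAct_mul hσ hτ] at e1 e2 ⊢
  revert e1 e2
  generalize f (codeAct τ a + codeAct τ b) = x₁
  generalize f (codeAct τ a) = x₂
  generalize f (codeAct τ b) = x₃
  generalize g (a + b) = y₁
  generalize g a = y₂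
  generalize g b = y₃
  generalize phi (codeAct (σ * τ) a) (codeAct (σ * τ) b) = p
  generalize phi (codeAct τ a) (codeAct τ b) = q
  generalize phi a b = r
  intro e1 e2
  linear_combination e1 + e2 + (zmod2_add_eq_zero q)

/-- The permutation of signed code words given by a pair. -/
def signPerm (σ : PP) (f : V → ZMod 2) (ψ : Equiv.Perm (V × ZMod 2)) : Prop :=
  ∀ a s, ψ (a, s) = (codeAct σ a, f a + s)

/-- The monoid of pairs. -/
def parkerMonoid : Submonoid (↥Spor.M23 × Equiv.Perm (V × ZMod 2)) where
  carrier := {z | ∃ f, signPerm z.1 f z.2 ∧ IsSign z.1 f}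
  one_mem' := ⟨0, fun a s => by simp [codeAct_one], fun a b => by
    show (0 : ZMod 2) + 0 + 0 = defect (1 : PP) a b
    rw [defect_one, add_zero, add_zero]⟩
  mul_mem' := by
    rintro x y ⟨f, hf, hf'⟩ ⟨g, hg, hg'⟩
    refine ⟨fun a => f (codeAct y.1 a) + g a, fun a s => ?_, hf'.mul x.1.2 y.1.2 hg'⟩
    show x.2 (y.2 (a, s)) = _
    rw [hg, hf, ← codeAct_mul x.1.2 y.1.2, add_assoc]
    rfl

/-- The extension. -/
def parkerGroup : Subgroup (↥Spor.M23 × Equiv.Perm (V × ZMod 2)) :=
  { parkerMonoid with
    inv_mem' := fun {x} hx => by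
      obtain ⟨m, hm⟩ : ∃ m : ℕ, x⁻¹ = x ^ m :=
        ⟨orderOf x - 1, inv_eq_of_mul_eq_one_left (by
          rw [← pow_succ, Nat.sub_add_cancel (isOfFinOrder_of_finite x).orderOf_pos,
            pow_orderOf_eq_one])⟩
      show x⁻¹ ∈ parkerMonoid
      rw [hm]; exact pow_mem hx m }

/-- The underlying permutation. -/
def parkerMap : ↥parkerGroup →* ↥Spor.M23 :=
  (MonoidHom.fst _ _).comp parkerGroup.subtype

/-- The sign function of an element. -/
def signOf (e : ↥parkerGroup) (a : V) : ZMod 2 := ((e.1.2 : Equiv.Perm _) (a, 0)).2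

theorem parker_spec (e : ↥parkerGroup) :
    signPerm (parkerMap e) (signOf e) e.1.2 ∧ IsSign (parkerMap e) (signOf e) := by
  obtain ⟨f, hf, hf'⟩ := e.2
  have : signOf e = f := funext fun a => by rw [signOf, hf]; exact add_zero _
  rw [this]; exact ⟨hf, hf'⟩

theorem parker_ext {e e' : ↥parkerGroup} (h : parkerMap e = parkerMap e')
    (hs : ∀ a, signOf e a = signOf e' a) : e = e' := by
  refine Subtype.ext (Prod.ext h (Equiv.ext fun ⟨a, s⟩ => ?_))
  rw [(parker_spec e).1, (parker_spec e').1, h, hs]

theorem signOf_mul (e e' : ↥parkerGroup) (a : V) :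
    signOf (e * e') a = signOf e (codeAct (parkerMap e') a) + signOf e' a := by
  show ((e.1.2 : Equiv.Perm _) ((e'.1.2 : Equiv.Perm _) (a, 0))).2 = _
  rw [(parker_spec e').1, add_zero, (parker_spec e).1]

theorem signOf_one (a : V) : signOf 1 a = 0 := rfl

theorem exists_parker {σ : PP} (hσ : σ ∈ Spor.M23) {f : V → ZMod 2} (hf : IsSign σ f) :
    ∃ e : ↥parkerGroup, parkerMap e = ⟨σ, hσ⟩ ∧ ∀ a, signOf e a = f a := by
  let ψ : Equiv.Perm (V × ZMod 2) :=
    { toFun := fun z => (codeAct σ z.1, f z.1 + z.2)
      invFun := fun z => (codeAct σ⁻¹ z.1, f (codeAct σ⁻¹ z.1) + z.2)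
      left_inv := fun z => by
        simp only [← codeAct_mul (inv_mem hσ) hσ, inv_mul_cancel, codeAct_one]
        rw [← add_assoc, zmod2_add_eq_zero, zero_add]
      right_inv := fun z => by
        simp only [← codeAct_mul hσ (inv_mem hσ), mul_inv_cancel, codeAct_one]
        rw [← add_assoc, zmod2_add_eq_zero, zero_add] }
  exact ⟨⟨(⟨σ, hσ⟩, ψ), f, fun a s => rfl, hf⟩, rfl, fun a => add_zero _⟩

/-- An additive function is determined on the unit vectors. -/
theorem eq_of_units {M : Type*} [AddCommGroup M] {f g : V → M}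
    (hf : ∀ a b, f (a + b) = f a + f b) (hg : ∀ a b, g (a + b) = g a + g b)
    (h : ∀ i : Fin 11, f (Pi.single i 1) = g (Pi.single i 1)) : ∀ a, f a = g a := by
  let F := (AddMonoidHom.mk' f hf)
  let G := (AddMonoidHom.mk' g hg)
  suffices hFG : F = G from fun a => congrArg (fun H : V →+ M => H a) hFG
  refine AddMonoidHom.functions_ext _ _ _ fun i x => ?_
  rcases (by decide : ∀ c : ZMod 2, c = 0 ∨ c = 1) x with rfl | rfl
  · rw [Pi.single_zero, map_zero, map_zero]
  · exact h i

theorem parker_ext_units {e e' : ↥parkerGroup} (h : parkerMap e = parkerMap e')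
    (hs : ∀ i : Fin 11, signOf e (Pi.single i 1) = signOf e' (Pi.single i 1)) : e = e' := by
  refine parker_ext h fun a => ?_
  have hd : ∀ a, signOf e a + signOf e' a = 0 := by
    refine eq_of_units (fun a b => ?_) (fun _ _ => (add_zero 0).symm) fun i => by
      rw [hs i, zmod2_add_eq_zero]
    have e1 := (parker_spec e).2 a b
    have e2 := (parker_spec e').2 a b
    rw [h] at e1
    revert e1 e2
    generalize defect _ a b = d
    generalize signOf e (a + b) = x₁
    generalize signOf e a = x₂
    generalize signOf e b = x₃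
    generalize signOf e' (a + b) = y₁
    generalize signOf e' a = y₂
    generalize signOf e' b = y₃
    intro e1 e2
    linear_combination e1 - e2 + zmod2_add_eq_zero y₁ - zmod2_add_eq_zero x₂ - zmod2_add_eq_zero x₃
  calc signOf e a = signOf e a + (signOf e' a + signOf e' a) := by
        rw [zmod2_add_eq_zero, add_zero]
    _ = _ := by rw [← add_assoc, hd, zero_add]

/-! ### Lifts of the generators -/

/-- The mask of the bits of a Boolean function. -/
def maskOf (g : ℕ → Bool) : ℕ := xorUpTo (fun i => bif g i then 2 ^ i else 0) 11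

theorem bitsV_maskOf (g : ℕ → Bool) (i : Fin 11) : bitsV (maskOf g) i = bitZ (g i) := by
  rw [maskOf, bitsV_xorUpTo, Finset.sum_apply,
    Finset.sum_eq_single (i : ℕ) (fun j _ hj => ?_) (fun h => absurd (Finset.mem_range.2 i.isLt) h)]
  · cases g i <;> simp [bitsV, bitZ]
  · cases g j
    · simp [bitsV, bitZ]
    · simp [bitsV, bitZ, hj]

/-- The values at `a` of the rows of the factor set. -/
def rowVals (a : ℕ) : ℕ := maskOf fun i => (parkerFactor.getD i 0).testBit (a % 2 ^ 11)

theorem phi_bitsV_rowVals (a : ℕ) (b : V) :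
    phi (bitsV a) b = ∑ i : Fin 11, b i * bitsV (rowVals a) i := by
  simp only [phi, rowVals, bitsV_maskOf, enc_bitsV]

/-- The check that a table of signs is a sign function. -/
def signOK (M MT B : List ℕ) (F : ℕ) : Bool :=
  ((List.range 11).all fun c => (List.range 11).all fun i =>
    (MT.getD c 0).testBit i == (M.getD i 0).testBit c) &&
  allSpan [1, 2, 4, 8, 16, 32, 64, 128, 256, 512, 1024] fun a =>
    (appN MT (rowVals (appN M a)) ^^^ rowVals a) == appN B a &&
    maskOf (fun i => F.testBit ((a ^^^ 2 ^ i) % 2 ^ 11) ^^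
      (F.testBit (a % 2 ^ 11) ^^ F.testBit (2 ^ i))) == appN B a

theorem mem_units_span {a : ℕ} (ha : a < 2 ^ 11) :
    a ∈ spanMasks [1, 2, 4, 8, 16, 32, 64, 128, 256, 512, 1024] := by
  have key : ∀ n, ∀ a, a < 2 ^ n → ∀ l : List ℕ, l = ((List.range n).map (2 ^ ·)) →
      a ∈ spanMasks l.reverse := by
    intro n
    induction n with
    | zero =>
      intro a ha l hl
      subst hl
      have : a = 0 := by simpa using ha
      subst this
      exact zero_mem_spanMasks _
    | succ n ih =>
      intro a ha l hl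
      subst hl
      rw [List.range_succ, List.map_append, List.reverse_append]
      show a ∈ spanMasks (2 ^ n :: _)
      simp only [spanMasks, List.mem_append, List.mem_map]
      rcases Nat.lt_or_ge a (2 ^ n) with h | h
      · exact Or.inl (ih a h _ rfl)
      · refine Or.inr ⟨a ^^^ 2 ^ n, ih _ ?_ _ rfl, ?_⟩
        · refine Nat.lt_pow_two_of_testBit _ fun j hj => ?_
          rw [Nat.testBit_xor, Nat.testBit_two_pow]
          rcases eq_or_lt_of_le hj with rfl | hj'
          · rw [Nat.testBit_eq_decide_div_mod_eq]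
            have h2 : a / 2 ^ n = 1 :=
              Nat.div_eq_of_lt_le (by simpa using h) (by rw [pow_succ] at ha; omega)
            simp [h2]
          · rw [Nat.testBit_lt_two_pow (lt_of_lt_of_le ha (Nat.pow_le_pow_right two_pos hj')),
              decide_eq_false (by omega)]
            rfl
        · rw [Nat.xor_comm a, ← Nat.xor_assoc, Nat.xor_self, Nat.zero_xor]
  have h := key 11 a ha _ rfl
  have hperm : ∀ x, x ∈ spanMasks ((List.range 11).map (2 ^ ·)).reverse →
      x ∈ spanMasks [1, 2, 4, 8, 16, 32, 64, 128, 256, 512, 1024] := by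
    have hc : allSpan ((List.range 11).map (2 ^ ·)).reverse (fun x =>
        reduceMask [(10, 1024), (9, 512), (8, 256), (7, 128), (6, 64), (5, 32), (4, 16), (3, 8),
          (2, 4), (1, 2), (0, 1)] x == 0) = true := by decide +kernel
    intro x hx
    refine reduceMask_spec [(10, 1024), (9, 512), (8, 256), (7, 128), (6, 64), (5, 32), (4, 16),
      (3, 8), (2, 4), (1, 2), (0, 1)] x ?_ (beq_iff_eq.1 (allSpan_iff.1 hc x hx))
    decide
  exact hperm a h

theorem isSign_table {σ : PP} (hσ : σ ∈ Spor.M23) {t : ℕ} {M MT B : List ℕ} {F : ℕ}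
    (ht : IsTbl σ t) (hM : codeMatOK t M = true) (h : signOK M MT B F = true) :
    IsSign σ fun a => bitZ (F.testBit (enc a)) := by
  have hact : ∀ x, codeAct σ x = appV M x := fun x => by
    rw [codeAct, codeWord_comp ht hM, codeCoord_codeWord]
  simp only [signOK, allSpan_iff, List.all_eq_true, List.mem_range, Bool.and_eq_true,
    beq_iff_eq] at h
  set f : V → ZMod 2 := fun a => bitZ (F.testBit (enc a)) with hf
  have hstep : ∀ a, ∀ i : Fin 11, defect σ a (Pi.single i 1) = appV B a i ∧
      f (a + Pi.single i 1) = f a + f (Pi.single i 1) + defect σ a (Pi.single i 1) := by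
    intro a i
    obtain ⟨n, hn, rfl⟩ := exists_bitsV a
    obtain ⟨h1, h2⟩ := h.2 n (mem_units_span hn)
    have hd : defect σ (bitsV n) (Pi.single i 1) = appV B (bitsV n) i := by
      rw [defect, hact, hact, ← bitsV_appN M, phi_bitsV_rowVals, phi_bitsV_rowVals]
      rw [← bitsV_appN B, ← h1, bitsV_xor, Pi.add_apply, bitsV_appN MT, appV_apply]
      congr 1
      · refine Finset.sum_congr rfl fun c _ => ?_
        rw [appV_apply, Finset.sum_eq_single i
            (fun j _ hj => by rw [Pi.single_eq_of_ne hj, zero_mul]) (by simp),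
          Pi.single_eq_same, one_mul, h.1 c c.isLt i i.isLt, mul_comm]
      · rw [Finset.sum_eq_single i (fun j _ hj => by rw [Pi.single_eq_of_ne hj, zero_mul]) (by simp),
          Pi.single_eq_same, one_mul]
    refine ⟨hd, ?_⟩
    rw [hd, ← bitsV_two_pow, ← bitsV_xor]
    simp only [hf, enc_bitsV]
    have e := bitsV_maskOf (fun i => F.testBit ((n ^^^ 2 ^ i) % 2 ^ 11) ^^
      (F.testBit (n % 2 ^ 11) ^^ F.testBit (2 ^ i))) i
    rw [h2, bitsV_appN, bitZ_xor, bitZ_xor] at e
    rw [e, Nat.mod_eq_of_lt (Nat.pow_lt_pow_right (by norm_num : (1 : ℕ) < 2) i.isLt)]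
    abel_nf
    generalize bitZ (F.testBit ((n ^^^ 2 ^ (i : ℕ)) % 2 ^ 11)) = x
    generalize bitZ (F.testBit (n % 2 ^ 11)) = y
    generalize bitZ (F.testBit (2 ^ (i : ℕ))) = z
    revert x y z
    decide
  have hDr : ∀ a b c, defect σ a (b + c) = defect σ a b + defect σ a c := fun a b c => by
    simp only [defect, codeAct_add hσ, phi_add]; abel
  have hDl : ∀ a a' b, defect σ (a + a') b = defect σ a b + defect σ a' b := by
    intro a a'
    refine eq_of_units (hDr (a + a')) (fun b c => ?_) fun i => ?_
    · rw [hDr, hDr]; abel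
    · rw [(hstep _ i).1, (hstep _ i).1, (hstep _ i).1, appV_add, Pi.add_apply]
  have hD0 : ∀ a, defect σ a 0 = 0 := fun a => by
    have := hDr a 0 0; rw [add_zero] at this; exact add_eq_left.1 this.symm
  have key : ∀ (s : Finset (Fin 11)) (a : V),
      f (a + ∑ i ∈ s, Pi.single i (1 : ZMod 2)) = f a + f (∑ i ∈ s, Pi.single i 1) +
        defect σ a (∑ i ∈ s, Pi.single i 1) := by
    intro s
    induction s using Finset.induction_on with
    | empty =>
      intro a
      have h0 : f 0 = 0 := by
        have := (hstep 0 0).2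
        rw [(hstep 0 0).1, appV_zero, Pi.zero_apply, add_zero, zero_add] at this
        exact right_eq_add.1 this
      simp [h0, hD0]
    | insert i s hi ih =>
      intro a
      rw [Finset.sum_insert hi, add_comm (Pi.single i 1), ← add_assoc, (hstep _ i).2, ih a,
        (hstep (∑ j ∈ s, Pi.single j 1) i).2, hDl, hDr]
      generalize defect σ (∑ j ∈ s, Pi.single j 1) (Pi.single i 1) = x
      abel_nf
  intro a b
  have hb : b = ∑ i ∈ Finset.univ.filter (fun i => b i = 1), Pi.single i (1 : ZMod 2) := by
    funext j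
    rw [Finset.sum_apply]
    simp only [Pi.single_apply, Finset.sum_ite_eq, Finset.mem_filter, Finset.mem_univ, true_and]
    rcases (by decide : ∀ c : ZMod 2, c = 0 ∨ c = 1) (b j) with e | e <;> simp [e]
  have hk := key (Finset.univ.filter fun i => b i = 1) a
  rw [← hb] at hk
  show f (a + b) + f a + f b = _
  rw [hk]
  revert hk
  generalize f a = x
  generalize f b = y
  generalize defect σ a b = z
  intro _
  linear_combination zmod2_add_eq_zero x + zmod2_add_eq_zero y

end CfsgLib.GolayExt
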