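import Cfsg.Agent.Lib.GolayExt.Parker

/-!
Kernel checks for the Parker extension: the chain of `M23` and the lifts of the generators.
-/

set_option autoImplicit false

namespace CfsgLib.GolayExt

open CfsgLib.Golay

/-- A chain for `M23`, with transversals expressed in two generators. -/
def chainM23 : List (ℕ × List ℕ × List ℕ) :=
  ((chainM24.drop 1).zip transM23).map fun p => (p.1.1, p.1.2.1, p.2)

set_option maxHeartbeats 0 in
set_option maxRecDepth 100000 in
theorem chainM23_ok : chainOK [8388608] chainM23 finalM24 = true ∧
    (chainM23.all fun l => l.2.2.all fun t => (slpGens ++ slpM23.map Prod.fst).contains t) = true := by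
  decide +kernel

set_option maxHeartbeats 0 in
set_option maxRecDepth 100000 in
theorem slpM23_ok : slpOK slpGens slpM23 = true := by decide +kernel

/-- The check of the lift of generator `k`. -/
def liftOK (k : ℕ) : Bool :=
  inM23 (parkerTbls.getD k 0) &&
    codeMatOK (parkerTbls.getD k 0) (parkerMats.getD k []) &&
    signOK (parkerMats.getD k []) (parkerMatsT.getD k []) (parkerBilin.getD k [])
      (parkerLifts.getD k 0)

set_option maxHeartbeats 0 in
set_option maxRecDepth 100000 in
theorem liftOK_0 : liftOK 0 = true := by decide +kernel

set_option maxHeartbeats 0 in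
set_option maxRecDepth 100000 in
theorem liftOK_1 : liftOK 1 = true := by decide +kernel

set_option maxHeartbeats 0 in
set_option maxRecDepth 100000 in
theorem liftOK_2 : liftOK 2 = true := by decide +kernel

set_option maxHeartbeats 0 in
set_option maxRecDepth 100000 in
theorem liftOK_3 : liftOK 3 = true := by decide +kernel

set_option maxHeartbeats 0 in
set_option maxRecDepth 100000 in
theorem liftOK_4 : liftOK 4 = true := by decide +kernel

set_option maxHeartbeats 0 in
set_option maxRecDepth 100000 in
theorem liftOK_5 : liftOK 5 = true := by decide +kernel

set_option maxHeartbeats 0 in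
set_option maxRecDepth 100000 in
theorem liftOK_6 : liftOK 6 = true := by decide +kernel

set_option maxHeartbeats 0 in
set_option maxRecDepth 100000 in
theorem liftOK_7 : liftOK 7 = true := by decide +kernel

theorem parkerLifts_ok : ∀ k < 8, liftOK k = true := by
  intro k hk
  interval_cases k
  · exact liftOK_0
  · exact liftOK_1
  · exact liftOK_2
  · exact liftOK_3
  · exact liftOK_4
  · exact liftOK_5
  · exact liftOK_6
  · exact liftOK_7

end CfsgLib.GolayExt
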