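import Cfsg.Agent.Lib.GolayExt.ParkerChecks

/-!
The Parker extension maps onto `M23`, its kernel is the cocode module, and it does not split.
-/

set_option autoImplicit false

namespace CfsgLib.GolayExt

open Cfsg CfsgLib.Golay

local notation "PP" => Equiv.Perm GolayPt
local notation "WW" => GolayPt → ZMod 2

theorem exists_parkerLift : ∀ k < 8, ∃ e : ↥parkerGroup,
    IsTbl (parkerMap e : PP) (parkerTbls.getD k 0) ∧
      ∀ a, signOf e a = bitZ ((parkerLifts.getD k 0).testBit (enc a)) := by
  intro k hk
  have h := parkerLifts_ok k hk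
  simp only [liftOK, Bool.and_eq_true] at h
  obtain ⟨σ, hσ, ht⟩ := exists_mem_M23_of_inM23 h.1.1
  obtain ⟨e, he, hf⟩ := exists_parker hσ (isSign_table hσ ht h.1.2 h.2)
  exact ⟨e, by rw [he]; exact ht, hf⟩

theorem parkerMap_surjective : Function.Surjective parkerMap := by
  have hle : Spor.M23 ≤ (Spor.M23.subtype.comp parkerMap).range := by
    intro g hg
    have hg' : g ∈ stabK [8388608] := by
      obtain ⟨h24, h0⟩ := mem_M23_iff.1 hg
      rw [mem_stabK]
      refine ⟨h24, fun n hn => ?_⟩
      rw [List.mem_singleton.1 hn, show (8388608 : ℕ) = 2 ^ idx (none : GolayPt) from rfl,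
        unmask_two_pow, Finset.smul_finset_singleton]
      exact congrArg (fun p => ({p} : Finset GolayPt)) h0
    refine stabK_le chainM23_ok.1 (fun l hl t ht σ hσ => ?_) hg'
    have hmem : t ∈ slpGens ++ slpM23.map Prod.fst := by
      simpa using List.all_eq_true.1 (List.all_eq_true.1 chainM23_ok.2 l hl) t ht
    obtain ⟨g', hg'', ht'⟩ := slp_mem (H := (Spor.M23.subtype.comp parkerMap).range)
      slpM23_ok (fun u hu => by
        simp only [slpGens, List.mem_cons, List.not_mem_nil, or_false] at hu
        rcases hu with rfl | rfl | rfl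
        · refine ⟨1, one_mem _, ?_⟩
          have h : ∀ p : GolayPt, idx p = tblAt 984818244535754528103549039458486304 (idx p) := by
            decide +kernel
          exact h
        · obtain ⟨e, he, -⟩ := exists_parkerLift 0 (by norm_num)
          exact ⟨_, ⟨e, rfl⟩, he⟩
        · obtain ⟨e, he, -⟩ := exists_parkerLift 7 (by norm_num)
          exact ⟨_, ⟨e, rfl⟩, he⟩) t hmem
    rwa [hσ.ext ht']
  intro σ
  obtain ⟨e, he⟩ := hle σ.2
  exact ⟨e, Subtype.ext he⟩

/-- The functional of a word on the code words avoiding the extra point. -/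
def pairing (w : WW) (a : V) : ZMod 2 := ∑ p, w p * codeWord a p

theorem pairing_add_right (w : WW) (a b : V) : pairing w (a + b) = pairing w a + pairing w b := by
  simp [pairing, mul_add, Finset.sum_add_distrib]

theorem pairing_eq (w : WW) (a : V) : pairing w a = ∑ i, a i * cocodeCoord w i := by
  simp only [pairing, codeWord, combMap_apply, Finset.sum_apply, Pi.smul_apply, smul_eq_mul,
    cocodeCoord_apply, Finset.mul_sum]
  rw [Finset.sum_comm]
  exact Finset.sum_congr rfl fun i _ => Finset.sum_congr rfl fun p _ => by ring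

theorem pairing_single (w : WW) (i : Fin 11) : pairing w (Pi.single i 1) = cocodeCoord w i := by
  rw [pairing_eq, Finset.sum_eq_single i (fun j _ hj => by rw [Pi.single_eq_of_ne hj, zero_mul])
    (by simp), Pi.single_eq_same, one_mul]

theorem isSign_pairing (w : WW) : IsSign (1 : PP) (pairing w) := by
  intro a b
  rw [defect_one, pairing_add_right, add_assoc, zmod2_add_eq_zero]

theorem exists_kerElt (w : WW) : ∃ e : ↥parkerMap.ker, ∀ a, signOf e.1 a = pairing w a := by
  obtain ⟨e, he, hf⟩ := exists_parker (one_mem _) (isSign_pairing w)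
  exact ⟨⟨e, MonoidHom.mem_ker.2 he⟩, hf⟩

/-- The kernel element of a word. -/
noncomputable def kerElt (w : WW) : ↥parkerMap.ker := Classical.choose (exists_kerElt w)

theorem signOf_kerElt (w : WW) (a : V) : signOf (kerElt w).1 a = pairing w a :=
  Classical.choose_spec (exists_kerElt w) a

theorem parkerMap_kerElt (w : WW) : parkerMap (kerElt w).1 = 1 := (kerElt w).2

theorem kerElt_add (v w : WW) : kerElt (v + w) = kerElt v * kerElt w := by
  refine Subtype.ext (parker_ext ?_ fun a => ?_)
  · rw [parkerMap_kerElt, Subgroup.coe_mul, map_mul, parkerMap_kerElt, parkerMap_kerElt, one_mul]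
  · rw [Subgroup.coe_mul, signOf_mul, parkerMap_kerElt, OneMemClass.coe_one, codeAct_one,
      signOf_kerElt, signOf_kerElt, signOf_kerElt]
    simp [pairing, add_mul, Finset.sum_add_distrib]

/-- The words onto the kernel. -/
noncomputable def parkerTheta : WW →+ Additive ↥parkerMap.ker :=
  AddMonoidHom.mk' (fun w => Additive.ofMul (kerElt w)) fun v w => by rw [kerElt_add]; rfl

theorem parkerTheta_surjective : Function.Surjective parkerTheta := by
  intro n
  refine ⟨cocodeRep fun i => signOf n.toMul.1 (Pi.single i 1), ?_⟩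
  show Additive.ofMul (kerElt _) = n
  refine congrArg Additive.ofMul (Subtype.ext (parker_ext_units ?_ fun i => ?_) :
    kerElt _ = n.toMul)
  · rw [parkerMap_kerElt]; exact (MonoidHom.mem_ker.1 n.toMul.2).symm
  · rw [signOf_kerElt, pairing_single, cocodeCoord_rep]

theorem parkerTheta_eq_zero (w : WW) :
    parkerTheta w = 0 ↔ (w ∈ golayCode ∨ w + Pi.single none 1 ∈ golayCode) := by
  rw [← mem_cocodeKer, ← cocodeCoord_eq_zero_iff]
  constructor
  · intro h
    have h' : kerElt w = 1 := h
    funext i
    have := signOf_kerElt w (Pi.single i 1)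
    rw [h', OneMemClass.coe_one, signOf_one, pairing_single] at this
    exact this.symm
  · intro h
    show Additive.ofMul (kerElt w) = 0
    refine (congrArg Additive.ofMul (Subtype.ext (parker_ext_units ?_ fun i => ?_) :
      kerElt w = 1))
    · rw [parkerMap_kerElt, OneMemClass.coe_one, map_one]
    · rw [signOf_kerElt, pairing_single, h, OneMemClass.coe_one, signOf_one]
      rfl

/-- The isomorphism of the quotient with `M23`. -/
noncomputable def parkerQuot : ↥parkerGroup ⧸ parkerMap.ker ≃* ↥Spor.M23 :=
  QuotientGroup.quotientKerEquivOfSurjective parkerMap parkerMap_surjective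

theorem parkerQuot_mk (g : ↥parkerGroup) : parkerQuot (QuotientGroup.mk g) = parkerMap g := rfl

theorem parkerTheta_conj (g : ↥parkerGroup) (w : WW) :
    ((parkerTheta (w ∘ ⇑(((parkerQuot (QuotientGroup.mk g) : ↥Spor.M23) : PP)⁻¹))).toMul :
      ↥parkerGroup) = g * ((parkerTheta w).toMul : ↥parkerGroup) * g⁻¹ := by
  rw [parkerQuot_mk, eq_mul_inv_iff_mul_eq]
  show (kerElt _).1 * g = g * (kerElt w).1
  refine parker_ext ?_ fun a => ?_
  · rw [map_mul, map_mul, parkerMap_kerElt, parkerMap_kerElt, one_mul, mul_one]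
  · rw [signOf_mul, signOf_mul, parkerMap_kerElt, OneMemClass.coe_one, codeAct_one, signOf_kerElt,
      signOf_kerElt]
    have h : pairing (w ∘ ⇑((parkerMap g : PP)⁻¹)) (codeAct (parkerMap g : PP) a) = pairing w a := by
      simp only [pairing, ← codeWord_comp_mem (parkerMap g).2, Function.comp_apply]
      exact Equiv.sum_comp (parkerMap g : PP)⁻¹ fun p => w p * codeWord a p
    rw [h, add_comm]

/-- The sign function of a word in the lifts, on numbers. -/
def signWord : List ℕ → ℕ → Bool
  | [], _ => false
  | k :: w, a =>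
    (parkerLifts.getD k 0).testBit ((w.foldr (fun j b => appN (parkerMats.getD j []) b) a) % 2 ^ 11) ^^
      signWord w a

/-- The check of the relations of the lifts. -/
def parkerRelOK : Bool :=
  (List.range 28).all fun r =>
    let R := ruleAt sylRules r
    (R.1 ++ R.2).all (fun k => decide (k < 7)) &&
    (List.range 11).all fun i =>
      signWord R.1 (2 ^ i) == ((parity fun j => (R.2.foldr (fun k b => appN (parkerMats.getD k []) b)
        (2 ^ i)).testBit j && (nonsplitClass.getD r 0).testBit j) ^^ signWord R.2 (2 ^ i))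

/-- The symbolic change of relation `j / 11` in coordinate `j % 11`. -/
def cobRow (j : ℕ) : ℕ :=
  let R := ruleAt sylRules (j / 11)
  let W := (List.range 7).map unitS
  (occS (cocodeMats.take 7) W R.1).getD (j % 11) 0 ^^^
    (occS (cocodeMats.take 7) W R.2).getD (j % 11) 0

/-- Bit `j` of the dual functional. -/
def dualBit (j : ℕ) : Bool := (nonsplitDual.getD (j / 11) 0).testBit (j % 11)

set_option maxRecDepth 100000 in
theorem nonsplit_checks : parkerRelOK = true ∧
    xorUpTo (fun j => bif dualBit j then cobRow j else 0) 308 = 0 ∧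
    (xorUpTo (fun j => b2n (dualBit j && (nonsplitClass.getD (j / 11) 0).testBit (j % 11))) 308).testBit 0 =
      true := by
  decide +kernel

theorem parker_nonsplit (H : Subgroup ↥parkerGroup) (h1 : H ⊓ parkerMap.ker = ⊥) :
    H ⊔ parkerMap.ker ≠ ⊤ := by
  intro h2
  have hq : ∀ g, quotMap parkerMap.ker parkerQuot g = (parkerMap g : PP) := fun g => rfl
  obtain ⟨M, hM, hMβ⟩ := nonempty_cocodeModel parkerMap.ker parkerQuot parkerTheta
    parkerTheta_surjective parkerTheta_eq_zero parkerTheta_conj
  have hπ : ∀ g, M.π g = (parkerMap g : PP) := fun g => by rw [hM]; exact hq g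
  have hex : ∀ k, ∃ e : ↥parkerGroup, k < 7 → IsTbl (parkerMap e : PP) (parkerTbls.getD k 0) ∧
      ∀ a, signOf e a = bitZ ((parkerLifts.getD k 0).testBit (enc a)) := fun k => by
    rcases Nat.lt_or_ge k 7 with hk | hk
    · obtain ⟨e, he⟩ := exists_parkerLift k (by omega)
      exact ⟨e, fun _ => he⟩
    · exact ⟨1, fun h => absurd h (by omega)⟩
  choose s hs using hex
  have hlift : ∀ k, ∃ x, M.β x * s k ∈ H := fun k => by
    obtain ⟨h, hh, n, hn, e⟩ := Subgroup.mem_sup_of_normal_right.1 (h2 ▸ Subgroup.mem_top (s k))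
    have hn' : M.π (h * n⁻¹ * h⁻¹) = 1 := by
      rw [map_mul, map_mul, map_inv, map_inv, hπ n, MonoidHom.mem_ker.1 hn, OneMemClass.coe_one,
        inv_one, mul_one, mul_inv_cancel]
    obtain ⟨x, hx⟩ := (M.mem_ker _).1 hn'
    exact ⟨x, by rw [hx, ← e]; simpa [mul_assoc] using hh⟩
  choose x hx using hlift
  have hmats : ∀ k < 7, cocodeAct (parkerMap (s k) : PP) = appV ((cocodeMats.take 7).getD k []) := by
    intro k hk
    have hk' : k < cocodeMats.length := lt_of_lt_of_le hk (by decide +kernel)
    rw [List.getD_eq_getElem?_getD, List.getElem?_take, if_pos hk, ← List.getD_eq_getElem?_getD]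
    refine cocodeAct_eq k hk' _ ?_
    have e : cocodeGens.getD k 0 = parkerTbls.getD k 0 := by
      revert k; decide +kernel
    rw [e]; exact (hs k hk).1
  have hlen : (cocodeMats.take 7).length = 7 := by decide +kernel
  have hA : IsActing (cocodeMats.take 7) s M.β := ⟨M.add, fun k hk v => by
    rw [M.conj, hπ, hmats k (hlen ▸ hk)]⟩
  obtain ⟨hrelOK, hy0, hy1⟩ := nonsplit_checks
  simp only [parkerRelOK, List.all_eq_true, List.mem_range, Bool.and_eq_true, decide_eq_true_eq,
    beq_iff_eq] at hrelOK
  have hword : ∀ w : List ℕ, (∀ k ∈ w, k < 7) → ∀ n : ℕ,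
      codeAct (parkerMap (liftW s w) : PP) (bitsV n) =
        bitsV (w.foldr (fun j b => appN (parkerMats.getD j []) b) n) ∧
      signOf (liftW s w) (bitsV n) = bitZ (signWord w n) := by
    intro w
    induction w with
    | nil =>
      intro _ n
      refine ⟨?_, ?_⟩
      · rw [liftW_nil, map_one, OneMemClass.coe_one, codeAct_one]; rfl
      · rw [liftW_nil, signOf_one]; rfl
    | cons k w ih =>
      intro hw n
      have hk := hw k (List.mem_cons_self ..)
      obtain ⟨ha, hf⟩ := ih (fun j hj => hw j (List.mem_cons_of_mem _ hj)) n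
      have hM' : ∀ v, codeAct (parkerMap (s k) : PP) v = appV (parkerMats.getD k []) v := fun v => by
        have h := parkerLifts_ok k (by omega)
        simp only [liftOK, Bool.and_eq_true] at h
        rw [codeAct, codeWord_comp (hs k hk).1 h.1.2, codeCoord_codeWord]
      refine ⟨?_, ?_⟩
      · rw [liftW_cons, map_mul, Subgroup.coe_mul,
          codeAct_mul (parkerMap (s k)).2 (parkerMap (liftW s w)).2, ha, hM', ← bitsV_appN]
        rfl
      · rw [liftW_cons, signOf_mul, ha, hf, (hs k hk).2, enc_bitsV, ← bitZ_xor]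
        rfl
  have hrel : ∀ r < 28, liftW s (ruleAt sylRules r).1 =
      M.β (bitsV (nonsplitClass.getD r 0)) * liftW s (ruleAt sylRules r).2 := by
    intro r hr
    obtain ⟨hw, hsg⟩ := hrelOK r hr
    have w1 : ∀ k ∈ (ruleAt sylRules r).1, k < 7 := fun k hk => hw k (List.mem_append_left _ hk)
    have w2 : ∀ k ∈ (ruleAt sylRules r).2, k < 7 := fun k hk => hw k (List.mem_append_right _ hk)
    have hperm : parkerMap (liftW s (ruleAt sylRules r).1) =
        parkerMap (liftW s (ruleAt sylRules r).2) := by
      apply Subtype.ext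
      rw [← hπ, ← hπ]
      simp only [liftW, map_list_prod, List.map_map]
      refine isTbl_word_eq (gens := sylTbls) (fun k hk => ?_) (fun k hk => ?_) ?_
      · have := (hs k (w1 k hk)).1
        rw [Function.comp_apply, hπ]
        convert this using 1
        have e : ∀ k < 7, sylTbls.getD k 0 = parkerTbls.getD k 0 := by decide +kernel
        exact e k (w1 k hk)
      · have := (hs k (w2 k hk)).1
        rw [Function.comp_apply, hπ]
        convert this using 1
        have e : ∀ k < 7, sylTbls.getD k 0 = parkerTbls.getD k 0 := by decide +kernel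
        exact e k (w2 k hk)
      · have e : ∀ r < 28, ∀ i < 24, wordImg sylTbls (ruleAt sylRules r).1 i =
            wordImg sylTbls (ruleAt sylRules r).2 i := by decide +kernel
        exact e r hr
    have hβ : ∀ v a, signOf (M.β v) a = ∑ i, a i * v i := by
      intro v a
      rw [hMβ]
      show signOf (kerElt (cocodeRep v)).1 a = _
      rw [signOf_kerElt, pairing_eq, cocodeCoord_rep]
    refine parker_ext_units ?_ fun i => ?_
    · rw [map_mul, hperm, show parkerMap (M.β _) = 1 from Subtype.ext ((hπ _).symm.trans (M.π_β _)),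
        one_mul]
    · rw [← bitsV_two_pow, signOf_mul, (hword _ w1 _).2, (hword _ w2 _).2, (hword _ w2 _).1, hβ,
        hsg i i.isLt, bitZ_xor, ← sum_bitZ]
      exact congrArg (· + _) (Finset.sum_congr rfl fun j _ => bitZ_and _ _)
  let U : ℕ → ZMod 2 := fun j => x (j / 11) ⟨j % 11, Nat.mod_lt _ (by norm_num)⟩
  let W : List (List ℕ) := (List.range 7).map unitS
  have hWx : ∀ k < 7, evS U (W.getD k []) = x k := by
    intro k hk
    rw [List.getD_eq_getElem _ _ (by simpa [W] using hk)]
    simp only [W, List.getElem_map, List.getElem_range]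
    rw [evS_unitS U (by omega)]
    funext i
    have e1 : (k * 11 + i) / 11 = k := by have := i.isLt; omega
    have e2 : (k * 11 + i.val) % 11 = i.val := by have := i.isLt; omega
    simp only [uvec, U, e1, e2]
  have hzero : ∀ r < 28, evS U (occS (cocodeMats.take 7) W (ruleAt sylRules r).1) +
      bitsV (nonsplitClass.getD r 0) +
      evS U (occS (cocodeMats.take 7) W (ruleAt sylRules r).2) = 0 := by
    intro r hr
    obtain ⟨hw, -⟩ := hrelOK r hr
    have w1 : ∀ k ∈ (ruleAt sylRules r).1, k < 7 := fun k hk => hw k (List.mem_append_left _ hk)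
    have w2 : ∀ k ∈ (ruleAt sylRules r).2, k < 7 := fun k hk => hw k (List.mem_append_right _ hk)
    have hmemH : ∀ w : List ℕ, (∀ k ∈ w, k < 7) →
        M.β (evS U (occS (cocodeMats.take 7) W w)) * liftW s w ∈ H := fun w hw => by
      rw [← liftW_shift hA U W fun k hk => hlen.symm ▸ hw k hk]
      refine Subgroup.list_prod_mem H fun y hy => ?_
      obtain ⟨k, hk, rfl⟩ := List.mem_map.1 hy
      show M.β (evS U (W.getD k [])) * s k ∈ H
      rw [hWx k (hw k hk)]; exact hx k
    have ha := hmemH _ w1
    have hb := H.inv_mem (hmemH _ w2)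
    have hab := H.mul_mem ha hb
    rw [hrel r hr, ← mul_assoc, ← M.add, mul_inv_rev, mul_assoc, mul_inv_cancel_left,
      inv_eq_of_mul_eq_one_right (hA.mul_self _), ← M.add] at hab
    have hk : M.β _ ∈ H ⊓ parkerMap.ker :=
      ⟨hab, MonoidHom.mem_ker.2 (Subtype.ext ((hπ _).symm.trans (M.π_β _)))⟩
    rw [h1, Subgroup.mem_bot] at hk
    exact M.inj (hk.trans M.map_zero.symm)
  have hrow : ∀ j < 308,
      ev U (cobRow j) = bitZ ((nonsplitClass.getD (j / 11) 0).testBit (j % 11)) := by
    intro j hj
    have h := congrFun (hzero (j / 11) (by omega)) ⟨j % 11, Nat.mod_lt _ (by norm_num)⟩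
    rw [cobRow, ev_xor]
    simp only [Pi.add_apply, Pi.zero_apply, evS, bitsV] at h
    revert h
    generalize ev U ((occS (cocodeMats.take 7) W (ruleAt sylRules (j / 11)).1).getD (j % 11) 0) = a
    generalize ev U ((occS (cocodeMats.take 7) W (ruleAt sylRules (j / 11)).2).getD (j % 11) 0) = b
    generalize bitZ ((nonsplitClass.getD (j / 11) 0).testBit (j % 11)) = c
    revert a b c
    decide
  have e1 : ∑ j ∈ Finset.range 308, ev U (bif dualBit j then cobRow j else 0) = 0 := by
    rw [← ev_xorUpTo, hy0, ev_zero]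
  have e2 : ∑ j ∈ Finset.range 308,
      bitZ (dualBit j && (nonsplitClass.getD (j / 11) 0).testBit (j % 11)) = 1 := by
    have h := congrFun (bitsV_xorUpTo
      (fun j => b2n (dualBit j && (nonsplitClass.getD (j / 11) 0).testBit (j % 11))) 308) 0
    rw [Finset.sum_apply] at h
    simp only [bitsV, show ((0 : Fin 11) : ℕ) = 0 from rfl, hy1] at h
    refine (Finset.sum_congr rfl fun j _ => ?_).trans h.symm
    simp only [b2n]
    cases (dualBit j && (nonsplitClass.getD (j / 11) 0).testBit (j % 11)) <;> rfl
  refine absurd ((e1.symm.trans (Finset.sum_congr rfl fun j hj => ?_)).trans e2) (by decide)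
  cases hd : dualBit j
  · simp [ev_zero, bitZ]
  · rw [cond_true, Bool.true_and, hrow j (Finset.mem_range.1 hj)]

end CfsgLib.GolayExt
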