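import Cfsg.Agent.Lib.GolayExt.Linear

/-!
Lifts of relations to an extension by an elementary abelian 2-group: chains of relation steps give
linear equations on the unknown vectors of the relations, and these normalise the lifts.
-/

set_option autoImplicit false

namespace CfsgLib.GolayExt

variable {G : Type*} [Group G]

/-- The product of lifts along a word. -/
def liftW (g : ℕ → G) (w : List ℕ) : G := (w.map g).prod

theorem liftW_nil (g : ℕ → G) : liftW g [] = 1 := rfl

theorem liftW_cons (g : ℕ → G) (k : ℕ) (w : List ℕ) : liftW g (k :: w) = g k * liftW g w := by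
  simp [liftW]

theorem liftW_append (g : ℕ → G) (v w : List ℕ) : liftW g (v ++ w) = liftW g v * liftW g w := by
  simp [liftW]

theorem liftW_congr {g g' : ℕ → G} {w : List ℕ} (h : ∀ k ∈ w, g k = g' k) :
    liftW g w = liftW g' w := by
  rw [liftW, liftW, List.map_congr_left h]

/-- A left side of a relation; the pair of sides. -/
def ruleAt (rules : List (List ℕ × List ℕ)) (r : ℕ) : List ℕ × List ℕ := rules.getD r ([], [])

/-- The lifts `g` act on the image of `β` by the matrices. -/
structure IsActing (mats : List (List ℕ)) (g : ℕ → G) (β : V → G) : Prop where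
  add : ∀ x y, β (x + y) = β x * β y
  conj : ∀ k < mats.length, ∀ x, g k * β x = β (appV (mats.getD k []) x) * g k

theorem IsActing.map_zero {mats : List (List ℕ)} {g : ℕ → G} {β : V → G}
    (h : IsActing mats g β) : β 0 = 1 := by
  have e := h.add 0 0
  rw [add_zero] at e
  exact left_eq_mul.1 e

theorem IsActing.mul_self {mats : List (List ℕ)} {g : ℕ → G} {β : V → G}
    (h : IsActing mats g β) (x : V) : β x * β x = 1 := by
  rw [← h.add, zmod2_add_eq_zero, h.map_zero]

/-- The matrix of a word applied to a vector. -/
def appPV (mats : List (List ℕ)) (p : List ℕ) (x : V) : V :=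
  p.foldr (fun k y => appV (mats.getD k []) y) x

/-- The matrix of a word applied to a symbolic vector. -/
def appPS (mats : List (List ℕ)) (p : List ℕ) (S : List ℕ) : List ℕ :=
  p.foldr (fun k T => appS (mats.getD k []) T) S

theorem evS_appPS (U : ℕ → ZMod 2) (mats : List (List ℕ)) (p S : List ℕ) :
    evS U (appPS mats p S) = appPV mats p (evS U S) := by
  induction p with
  | nil => simp only [appPS, appPV, List.foldr_nil]
  | cons k p ih =>
    simp only [appPS, appPV, List.foldr_cons] at ih ⊢
    rw [evS_appS, ih]

theorem IsActing.push {mats : List (List ℕ)} {g : ℕ → G} {β : V → G}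
    (h : IsActing mats g β) : ∀ {p : List ℕ}, (∀ k ∈ p, k < mats.length) → ∀ x,
      liftW g p * β x = β (appPV mats p x) * liftW g p
  | [], _, x => by simp [liftW_nil, appPV]
  | k :: p, hp, x => by
    rw [liftW_cons, mul_assoc, h.push (fun j hj => hp j (List.mem_cons_of_mem _ hj)), ← mul_assoc,
      h.conj k (hp k (List.mem_cons_self ..)), mul_assoc]
    rfl

/-- One step: replace a side of relation `s.2.1` at position `s.1` by the other side. -/
def step (mats : List (List ℕ)) (rules : List (List ℕ × List ℕ)) (w : List ℕ)
    (s : ℕ × ℕ × Bool) : Option (List ℕ × List ℕ) :=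
  let R := ruleAt rules s.2.1
  let l := bif s.2.2 then R.1 else R.2
  let r := bif s.2.2 then R.2 else R.1
  bif (w.drop s.1).take l.length == l && (decide (s.2.1 < rules.length) && decide (s.2.1 < 46) &&
      (w.take s.1).all fun k => decide (k < mats.length)) then
    some (w.take s.1 ++ r ++ w.drop (s.1 + l.length), appPS mats (w.take s.1) (unitS s.2.1))
  else none

/-- Run a chain of steps, summing the contributions. -/
def runSteps (mats : List (List ℕ)) (rules : List (List ℕ × List ℕ)) :
    List ℕ → List (ℕ × ℕ × Bool) → Option (List ℕ × List ℕ)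
  | w, [] => some (w, zeroS)
  | w, s :: ss =>
    match step mats rules w s with
    | none => none
    | some (w', S) =>
      match runSteps mats rules w' ss with
      | none => none
      | some (w'', T) => some (w'', addS S T)

/-- The equations given by a closed chain. -/
def loopRows (mats : List (List ℕ)) (rules : List (List ℕ × List ℕ))
    (L : List ℕ × List (ℕ × ℕ × Bool)) : List ℕ :=
  match runSteps mats rules L.1 L.2 with
  | none => []
  | some (w, S) => bif w == L.1 then mkS fun i => S.getD i 0 else []

/-- All the equations of a list of closed chains. -/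
def allRows (mats : List (List ℕ)) (rules : List (List ℕ × List ℕ))
    (loops : List (List ℕ × List (ℕ × ℕ × Bool))) : List ℕ :=
  loops.flatMap (loopRows mats rules)

variable {mats : List (List ℕ)} {rules : List (List ℕ × List ℕ)} {g : ℕ → G} {β : V → G}

theorem step_sound (h : IsActing mats g β) (U : ℕ → ZMod 2)
    (hrel : ∀ r < rules.length, liftW g (ruleAt rules r).1 = β (uvec U r) * liftW g (ruleAt rules r).2)
    {w w' S : List ℕ} {s : ℕ × ℕ × Bool} (e : step mats rules w s = some (w', S)) :
    liftW g w = β (evS U S) * liftW g w' := by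
  obtain ⟨p, r, d⟩ := s
  simp only [step] at e
  generalize hl : (bif d then (ruleAt rules r).1 else (ruleAt rules r).2) = l at e
  generalize hr : (bif d then (ruleAt rules r).2 else (ruleAt rules r).1) = l' at e
  cases hc : ((w.drop p).take l.length == l && (decide (r < rules.length) && decide (r < 46) &&
      (w.take p).all fun k => decide (k < mats.length)))
  · rw [hc] at e; exact absurd e (by simp)
  · rw [hc, cond_true, Option.some.injEq, Prod.mk.injEq] at e
    simp only [Bool.and_eq_true, beq_iff_eq, decide_eq_true_eq, List.all_eq_true] at hc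
    obtain ⟨hsub, ⟨hrl, hr46⟩, hp⟩ := hc
    obtain ⟨rfl, rfl⟩ := e
    have hside : liftW g l = β (uvec U r) * liftW g l' := by
      cases d
      · simp only [cond_false] at hl hr
        rw [← hl, ← hr, hrel r hrl, ← mul_assoc, h.mul_self, one_mul]
      · simp only [cond_true] at hl hr
        rw [← hl, ← hr, hrel r hrl]
    have hw : w = w.take p ++ (l ++ w.drop (p + l.length)) := by
      have e1 : l ++ (w.drop p).drop l.length = w.drop p := by
        have e2 := List.take_append_drop l.length (w.drop p)
        rwa [hsub] at e2
      rw [← List.drop_drop, e1, List.take_append_drop]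
    conv_lhs => rw [hw]
    rw [evS_appPS, evS_unitS U hr46, List.append_assoc, liftW_append, liftW_append, hside,
      liftW_append, liftW_append, mul_assoc (β (uvec U r)), ← mul_assoc, h.push hp, mul_assoc]

theorem runSteps_sound (h : IsActing mats g β) (U : ℕ → ZMod 2)
    (hrel : ∀ r < rules.length, liftW g (ruleAt rules r).1 = β (uvec U r) * liftW g (ruleAt rules r).2) :
    ∀ {ss : List (ℕ × ℕ × Bool)} {w w' S : List ℕ}, runSteps mats rules w ss = some (w', S) →
      liftW g w = β (evS U S) * liftW g w'
  | [], w, w', S, e => by
    simp only [runSteps, Option.some.injEq, Prod.mk.injEq] at e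
    rw [← e.1, ← e.2, evS_zeroS, h.map_zero, one_mul]
  | s :: ss, w, w', S, e => by
    rw [runSteps] at e
    split at e
    · exact absurd e (by simp)
    · rename_i w1 S1 h1
      split at e
      · exact absurd e (by simp)
      · rename_i w2 T h2
        simp only [Option.some.injEq, Prod.mk.injEq] at e
        rw [← e.1, ← e.2, evS_addS, h.add, step_sound h U hrel h1, runSteps_sound h U hrel h2,
          mul_assoc]

theorem ev_allRows (h : IsActing mats g β) (hinj : Function.Injective β) (U : ℕ → ZMod 2)
    (hrel : ∀ r < rules.length, liftW g (ruleAt rules r).1 = β (uvec U r) * liftW g (ruleAt rules r).2)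
    (loops : List (List ℕ × List (ℕ × ℕ × Bool))) :
    ∀ a ∈ allRows mats rules loops, ev U a = 0 := by
  intro a ha
  obtain ⟨L, -, ha⟩ := List.mem_flatMap.1 ha
  rw [loopRows] at ha
  split at ha
  · exact absurd ha (by simp)
  · rename_i w S hS
    cases hw : w == L.1
    · rw [hw] at ha; exact absurd ha (by simp)
    · rw [hw, cond_true] at ha
      have e := runSteps_sound h U hrel hS
      rw [beq_iff_eq.1 hw] at e
      have h0 : evS U S = 0 := hinj ((right_eq_mul.1 e).trans h.map_zero.symm)
      simp only [mkS, List.mem_map, List.mem_range] at ha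
      obtain ⟨i, hi, rfl⟩ := ha
      exact congrFun h0 ⟨i, hi⟩

/-! ### Changing the lifts -/

/-- The change of a word under changes of the lifts. -/
def occS (mats W : List (List ℕ)) : List ℕ → List ℕ
  | [] => zeroS
  | k :: w => addS (W.getD k []) (appS (mats.getD k []) (occS mats W w))

theorem liftW_shift (h : IsActing mats g β) (U : ℕ → ZMod 2) (W : List (List ℕ)) :
    ∀ {w : List ℕ}, (∀ k ∈ w, k < mats.length) →
      liftW (fun k => β (evS U (W.getD k [])) * g k) w = β (evS U (occS mats W w)) * liftW g w
  | [], _ => by simp [liftW_nil, occS, evS_zeroS, h.map_zero]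
  | k :: w, hw => by
    rw [liftW_cons, liftW_shift h U W fun j hj => hw j (List.mem_cons_of_mem _ hj), occS, evS_addS,
      evS_appS, h.add, liftW_cons]
    calc β (evS U (W.getD k [])) * g k * (β (evS U (occS mats W w)) * liftW g w)
        = β (evS U (W.getD k [])) * (g k * β (evS U (occS mats W w))) * liftW g w := by group
      _ = _ := by rw [h.conj k (hw k (List.mem_cons_self ..))]; group

/-- The check that the equations force the changed lifts to satisfy the first `28` relations up to a
multiple of `rs`. -/
def normCheck (mats : List (List ℕ)) (rules : List (List ℕ × List ℕ))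
    (rows : List ℕ) (W : List (List ℕ)) (comb rs : List ℕ) (tau : ℕ) : Bool :=
  (List.range 28).all fun r =>
    let R := ruleAt rules r
    let A := occS mats W R.1
    let B := occS mats W R.2
    decide (r < rules.length) &&
      (R.1 ++ R.2).all (fun k => decide (k < mats.length) && decide (k < 7)) &&
      (List.range 11).all fun i =>
        selX rows (comb.getD (r * 11 + i) 0) ==
          2 ^ (r * 11 + i) ^^^ A.getD i 0 ^^^ B.getD i 0 ^^^
            (bif (rs.getD r 0).testBit i then tau else 0)

theorem exists_normalised (h : IsActing mats g β) (hinj : Function.Injective β)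
    (hrel : ∀ r < rules.length, ∃ x, liftW g (ruleAt rules r).1 = β x * liftW g (ruleAt rules r).2)
    {loops : List (List ℕ × List (ℕ × ℕ × Bool))} {W : List (List ℕ)} {comb rs : List ℕ} {tau : ℕ}
    (hc : normCheck mats rules (allRows mats rules loops) W comb rs tau = true) :
    ∃ (t : ZMod 2) (g' : ℕ → G), (∀ k, ∃ x, g' k = β x * g k) ∧ (tau = 0 → t = 0) ∧
      ∀ r < 28, liftW g' (ruleAt rules r).1 =
        β (t • bitsV (rs.getD r 0)) * liftW g' (ruleAt rules r).2 := by
  classical
  choose u hu using hrel
  let U : ℕ → ZMod 2 := fun j =>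
    if hj : j / 11 < rules.length then u (j / 11) hj ⟨j % 11, Nat.mod_lt _ (by norm_num)⟩ else 0
  have huv : ∀ (r : ℕ) (hr : r < rules.length), uvec U r = u r hr := by
    intro r hr
    funext i
    have h1 : (r * 11 + i) / 11 = r := by have := i.isLt; omega
    have h2 : (⟨(r * 11 + i) % 11, Nat.mod_lt _ (by norm_num)⟩ : Fin 11) = i :=
      Fin.ext (by
      show (r * 11 + i.val) % 11 = i.val
      have := i.isLt
      omega)
    simp only [uvec, U]
    rw [dif_pos (show (r * 11 + i) / 11 < rules.length by rw [h1]; exact hr)]
    simp only [h1, h2]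
  have hrel' : ∀ r < rules.length,
      liftW g (ruleAt rules r).1 = β (uvec U r) * liftW g (ruleAt rules r).2 := fun r hr => by
    rw [huv r hr]; exact hu r hr
  have hrows := ev_allRows h hinj U hrel' loops
  refine ⟨ev U tau, fun k => β (evS U (W.getD k [])) * g k, fun k => ⟨_, rfl⟩,
    fun e => by rw [e, ev_zero], fun r hr => ?_⟩
  simp only [normCheck, List.all_eq_true, List.mem_range, Bool.and_eq_true, decide_eq_true_eq,
    beq_iff_eq] at hc
  obtain ⟨⟨hrl, hw⟩, hrow⟩ := hc r hr
  have hw1 : ∀ k ∈ (ruleAt rules r).1, k < mats.length := fun k hk =>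
    (hw k (List.mem_append_left _ hk)).1
  have hw2 : ∀ k ∈ (ruleAt rules r).2, k < mats.length := fun k hk =>
    (hw k (List.mem_append_right _ hk)).1
  rw [liftW_shift h U W hw1, liftW_shift h U W hw2, hrel' r hrl, ← mul_assoc, ← h.add, ← mul_assoc,
    ← h.add]
  refine congrArg (fun x => β x * _) ?_
  funext i
  have e := ev_selX U (allRows mats rules loops) (comb.getD (r * 11 + i) 0) hrows
  rw [hrow i i.isLt, ev_xor, ev_xor, ev_xor, ev_two_pow U (by have := i.isLt; omega)] at e
  have e' : ev U (bif (rs.getD r 0).testBit i then tau else 0) =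
      ev U tau * bitZ ((rs.getD r 0).testBit i) := by
    cases (rs.getD r 0).testBit i <;> simp [bitZ, ev_zero]
  rw [e'] at e
  simp only [evS, uvec, Pi.add_apply, Pi.smul_apply, smul_eq_mul, bitsV]
  revert e
  generalize U (r * 11 + i) = a
  generalize ev U ((occS mats W (ruleAt rules r).1).getD i 0) = b
  generalize ev U ((occS mats W (ruleAt rules r).2).getD i 0) = c
  generalize ev U tau = d
  generalize bitZ ((rs.getD r 0).testBit i) = f
  revert a b c d f
  decide

end CfsgLib.GolayExt
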